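import Cfsg.Agent.A6N.T1

/-! The case where `J` has no fixed points (helper24): there is no pair of commuting conjugates (`aPD`). -/

set_option autoImplicit false
set_option linter.unusedSectionVars false

namespace Cfsg.Agent.A6N

open Cfsg.Agent.Fischer Cfsg.Agent.FI Subgroup Cfsg.Agent.BG Cfsg.Agent.LES Cfsg.Agent.PGrp Cfsg.Agent.U6R

variable {G : Type*} [Group G] [Finite G] {V : Type*} [AddCommGroup V] [Finite V] {z t x y a b g r d : G}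
  {Q H P K A T : Subgroup G} {p p' : G → V} {φ : V → ZMod 2} {β : V →+ V →+ ZMod 2} {ν ν' : G → V →+ V} {u v w n : V}
  {J : V →+ V} {D : Set G} {S S' : AddSubgroup V}

/-- `C_V(t) = [V, t]`. -/
def HK (ν : G → V →+ V) (t : G) : Prop := ∀ w, ν t w = w → ∃ v, w = ν t v + v

variable (fa : ∀ v, J (J v) = J v + v)
include fa

namespace AF
variable (F : AF z Q H p φ β ν J)
include F

theorem hk_sem (ht : Commute t z) (n : t ∉ H) : HK ν t := fun w h =>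
  ⟨J w, by rw [F.sem ht n, h, fa, add_right_comm, F.h2, zero_add]⟩

theorem dec (ht : Commute t z) (tt : t * t = 1) (n : t ∉ H) (v : V) :
    ∃ a a', ν t a = a ∧ ν t a' = a' ∧ v = a + J a' :=
  ⟨ν t (J v) + J v + (ν t v + v), ν t v + v, by rw [map_add, F.fixN ht tt, F.fixN ht tt], F.fixN ht tt v, by
    rw [F.sem ht n, fa, map_add]
    linear_combination (norm := abel1) -F.h2 (J (ν t v)) - F.h2 (J v) - F.h2 (ν t v)⟩

theorem sing_iso (h : ∀ v ∈ S, φ v = 0) : Nat.card S ≤ 16 :=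
  iso16 F.toFm fun u a v b => beta_of F.toFm (h u a) (h v b) (h _ (add_mem a b))

theorem nhk (ht : Commute t z) (tt : t * t = 1) (tQ : t ∉ Q) (n : ¬ HK ν t) :
    t ∈ H ∧ Nat.card (Cf ν t) = 64 ∧ 64 ≤ #(Q ⊓ C1[t] : Subgroup G) := by
  have hH : t ∈ H := by_contra fun k => n (F.hk_sem fa ht k)
  let N := (ν t + AddMonoidHom.id V).range
  have iN : ∀ v ∈ N, J v ∈ N := by rintro _ ⟨v, rfl⟩; exact ⟨J v, by simp [F.lin hH]⟩
  obtain ⟨w, h1, h2⟩ := not_forall.1 n |>.imp fun _ => Classical.not_imp.1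
  have a1 := J4 F.h2 (fa w) F.J3 (S := N) (S' := Cf ν t) (by rintro _ ⟨v, rfl⟩; exact (mem_Cf F.toFm).2 (F.fixN ht tt v)) iN
    (F.CfJ hH) ((mem_Cf F.toFm).2 h1) fun ⟨v, e⟩ => h2 ⟨v, e.symm⟩
  obtain ⟨v, hv⟩ := not_forall.1 (mt (F.ker ht) tQ)
  have a2 := J4 F.h2 (fa (ν t v + v)) F.J3 (S := ⊥) (S' := Ln F.h2 J (ν t v + v)) bot_le (by simp) (Ln_J F.h2 (fa _))
    (.inr (.inl rfl)) fun h => hv (eq_of_add F.h2 h)
  have le : Ln F.h2 J (ν t v + v) ≤ N := by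
    have m : ν t v + v ∈ N := ⟨v, rfl⟩
    rintro _ (rfl | rfl | rfl | rfl)
    exacts [zero_mem _, m, iN _ m, add_mem (iN _ m) m]
  have a3 := F.card_ker (t := t)
  have a4 := AddSubgroup.card_le_of_le le
  have a5 : Nat.card N ≤ 4 := by
    by_contra k
    obtain ⟨w, h1, h2⟩ := SetLike.not_le_iff_exists.1 fun h : N ≤ _ => k ((AddSubgroup.card_le_of_le h).trans (Ln_card F.h2 _))
    have := J4 F.h2 (fa w) F.J3 le (Ln_J F.h2 (fa _)) iN h1 h2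
    simp only [AddSubgroup.card_bot] at a2
    change Nat.card (Cf ν t) * Nat.card N = _ at a3
    nlinarith
  simp only [AddSubgroup.card_bot] at a2
  change Nat.card (Cf ν t) * Nat.card N = _ at a3
  have a6 : Nat.card (Cf ν t) = 64 := by rw [show Nat.card N = 4 by omega] at a3; omega
  exact ⟨hH, a6, a6 ▸ (F.cardA ht tt).1⟩

end AF

variable (Z : PD D z t Q P) (F : AF z Q H p φ β ν J) (F' : AF t P K p' φ β ν' J)
include Z F F'

omit fa in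
theorem b16 (hT : T ≤ P ⊓ C1[z]) : #T ≤ 32 * #(Q ⊓ P : Subgroup G) ∧ (T ≤ H → #T ≤ 16 * #(Q ⊓ P : Subgroup G)) ∧
    ((∀ a ∈ T, ∀ b ∈ T, Commute a b) → #(T ⊓ H : Subgroup G) ≤ 8 * #(Q ⊓ P : Subgroup G)) := by
  have k : ∀ {T}, T ≤ P ⊓ C1[z] → #(T ⊓ Q : Subgroup G) ≤ #(Q ⊓ P : Subgroup G) := fun h =>
    card_le_of_le fun x hx => ⟨hx.2, (h hx.1).1⟩
  have e : ∀ x ∈ T, x * x * (x * x) = 1 := fun x hx => ex4 F'.toFm (hT hx).1
  have a1 := F.halfH (hT.trans inf_le_right)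
  have a2 := F.g16 (T ⊓ H) inf_le_right fun x hx => e x hx.1
  have a3 := k (inf_le_left.trans hT : T ⊓ H ≤ _)
  refine ⟨by omega, fun h => (F.g16 T h e).trans (by have := k hT; omega), fun h => ?_⟩
  have := F.g8 (T ⊓ H) inf_le_right (fun x hx => e x hx.1) fun a ha b hb => by
    rw [(h a ha.1 b hb.1).eq]; simp
  omega

omit fa F' in
/-- If `Q ⊓ P` has order at most two, elements of `B` centralise half of `R`. -/
theorem halfR (h : #(Q ⊓ P : Subgroup G) ≤ 2) (hb : b ∈ P) (cb : Commute b z) :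
    #(Q ⊓ C1[t] : Subgroup G) ≤ 4 * Nat.card (Cf ν t ⊓ Cf ν b : AddSubgroup V) := by
  have a1 := half (B := Q ⊓ C1[t]) (S := F.pre (Cf ν b)) fun x hx y hy h1 h2 => by
    obtain ⟨x', a1, a2, a3⟩ := Z.act_B F.toFm hx.1 (mem_cent1.1 hx.2) hb cb
    obtain ⟨y', b1, b2, b3⟩ := Z.act_B F.toFm hy.1 (mem_cent1.1 hy.2) hb cb
    have n1 : x' ≠ 1 := fun e => h1 ⟨hx.1, show ν b _ + _ = 0 by rw [← F.p1, ← e]; exact a3.symm⟩
    have n2 : y' ≠ 1 := fun e => h2 ⟨hy.1, show ν b _ + _ = 0 by rw [← F.p1, ← e]; exact b3.symm⟩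
    obtain rfl : x' = y' := by
      by_contra k
      have := dbl (A := zpowers x') (B := Q ⊓ P) (zpowers_le.2 ⟨a1, a2⟩) ⟨b1, b2⟩ fun m =>
        (mem_zpowers_invol (Z.ksq a1 a2) m).elim n2 fun e => k e.symm
      rw [Nat.card_zpowers, orderOf_of_sq (Z.ksq a1 a2) n1] at this
      omega
    refine ⟨mul_mem hx.1 hy.1, (mem_Cf F.toFm).2 ?_⟩
    rw [F.add hx.1 hy.1, map_add]
    linear_combination (norm := abel1) b3 - a3 + F.h2 (ν b (p y)) - F.h2 (p x)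
  have a2 := card_le_of_le (show Q ⊓ C1[t] ⊓ F.pre (Cf ν b) ≤ F.pre (Cf ν t ⊓ Cf ν b) from fun x hx =>
    ⟨hx.1.1, (mem_Cf F.toFm).2 (F.nu_fix Z.c hx.1.1 (mem_cent1.1 hx.1.2).symm), hx.2.2⟩)
  rw [card_pre] at a2
  omega

theorem s1 : HK ν t := by
  by_contra n
  obtain ⟨hH, c64, r64⟩ := F.nhk fa Z.c Z.tt Z.tQ n
  obtain ⟨r, hr, e, nc⟩ : ∃ r ∈ Q, ν t (p r) = p r ∧ ¬ Commute t r := by
    by_contra k
    push Not at k
    have := F.sing_iso fa (S := Cf ν t) fun v hv => (z2_cases _).resolve_right fun h => by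
      obtain ⟨x, hx, rfl⟩ := F.surj v
      obtain ⟨y, hy, e⟩ := F.surj (J (p x))
      have := q8R Z F.toFm F' hx hy (k x hx ((mem_Cf F.toFm).1 hv)).symm
        (k y hy (e ▸ (mem_Cf F.toFm).1 (F.CfJ hH _ hv))).symm h (by rw [e, F.Jphi, h])
      rw [e, F.bJ (fa _), h] at this
      cases this
    omega
  have y2 := Y2 Z F.toFm hr e nc
  have a1 := (b16 Z.symm F' F le_rfl).1
  obtain h | ⟨y, hy, n1⟩ := (P ⊓ Q).bot_or_exists_ne_one
  · rw [h, card_bot] at a1; omega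
  obtain ⟨-, -, b64⟩ := F'.nhk fa Z.c.symm F.zz Z.symm.tQ fun k =>
    let ⟨_, e'⟩ := k _ (fixY Z.symm F'.toFm hy.1 hy.2)
    n1 (Z.symm.k3 F'.toFm ((tzc Z).2 (Z.tzD F.toFm hr e nc)) hy.1 hy.2 e')
  obtain ⟨σ, h1, h2⟩ := SetLike.not_le_iff_exists.1 fun h => by have := (b16 Z F F' le_rfl).2.1 h; omega
  have a2 := halfR Z F y2 h1.1 (mem_cent1.1 h1.2)
  have a3 := F.sq_le fa (mem_cent1.1 h1.2) h2 (F.CfJ hH)
  nlinarith

theorem isoC (h1 : ν t u = u) (h2 : ν t v = v) : β u v = 0 := iso_of F.toFm Z.c Z.tt (s1 fa Z F F') h1 h2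

theorem abB (ha : a ∈ P ⊓ C1[z]) (hb : b ∈ P ⊓ C1[z]) : Commute a b :=
  (F'.comm ha.1 hb.1).1 (isoC fa Z.symm F' F (F'.nu_fix Z.c.symm ha.1 (mem_cent1.1 ha.2).symm)
    (F'.nu_fix Z.c.symm hb.1 (mem_cent1.1 hb.2).symm))

theorem hkB (hb : b ∈ P ⊓ C1[z]) : ∃ v, p' b = ν' z v + v :=
  s1 fa Z.symm F' F _ (F'.nu_fix Z.c.symm hb.1 (mem_cent1.1 hb.2).symm)

theorem c16 : Nat.card (Cf ν t) ≤ 16 :=
  iso16 F.toFm fun _ a _ b => isoC fa Z F F' ((mem_Cf F.toFm).1 a) ((mem_Cf F.toFm).1 b)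

variable (all : All D φ β J)
include all

omit F' in
theorem c16' (hb : Commute b z) (n : b ∉ Q) (hy : y ∈ Q) (h : z * b * y ∈ D) : Nat.card (Cf ν b) ≤ 16 := by
  obtain ⟨_, _, _, _, a, c⟩ := all.pd Z h (((Commute.refl z).mul_left hb).mul_left (F.Qz hy)) fun e => n (by
    rw [mul_assoc, mul_eq_left, mul_eq_one_iff_eq_inv] at e; exact e ▸ inv_mem hy)
  have := c16 fa c F a
  rwa [show Cf ν (z * b * y) = Cf ν b by ext v; simp [nu_z F.toFm hb hy]] at this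

theorem s2a : t * z ∉ D := fun h => by
  have Y : Q ⊓ P = ⊥ := eq_bot_iff.2 fun y hy =>
    let ⟨_, e⟩ := s1 fa Z F F' _ (fixY Z F.toFm hy.1 hy.2); Z.k3 F.toFm h hy.1 hy.2 e
  have a1 := (b16 Z F F' le_rfl).2.2 fun _ a _ b => abB fa Z F F' a b
  have a2 := F'.card16 Z.c.symm F.zz
  have a3 := F.halfH (inf_le_right : P ⊓ C1[z] ≤ _)
  rw [Y, card_bot] at a1
  obtain ⟨σ, h1, h2⟩ := exists_nmem (A := P ⊓ C1[z]) (T := H) (by omega)
  obtain ⟨b, hb, n, -⟩ := exists_ne_of_lt (A := P ⊓ C1[z] ⊓ H) (by omega) 1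
  obtain ⟨v, e⟩ := hkB fa Z F F' hb.1
  have a4 := c16' fa Z F all (mem_cent1.1 hb.1.2) (fun k => n (Y.le ⟨k, hb.1.1⟩)) Q.one_mem
    (by rw [mul_one]; exact Z.symm.allD F'.toFm ((tzc Z).2 h) hb.1.1 e)
  have fx : ∀ b ∈ P ⊓ C1[z], ∀ x ∈ Q ⊓ C1[t], p x ∈ Cf ν b := fun b hb x hx => by
    obtain ⟨y, k1, k2, k3⟩ := Z.act_B F.toFm hx.1 (mem_cent1.1 hx.2) hb.1 (mem_cent1.1 hb.2)
    rw [show y = 1 from Y.le ⟨k1, k2⟩, F.p1] at k3
    exact k3.symm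
  have a5 := card_le_of_le (show Q ⊓ C1[t] ≤ F.pre (Cf ν b ⊓ Cf ν σ) from fun x hx => ⟨hx.1, fx b hb.1 x hx, fx σ h1 x hx⟩)
  have a6 := F.sq_le fa (mem_cent1.1 h1.2) h2 (F.CfJ hb.2)
  have a7 := F.card16 Z.c Z.tt
  rw [card_pre] at a5
  nlinarith

theorem cenC (hx : x ∈ Q) (h : ν t (p x) = p x) : Commute t x := by_contra fun n => s2a fa Z F F' all (Z.tzD F.toFm hx h n)

theorem r32 : 32 ≤ #(Q ⊓ C1[t] : Subgroup G) := by
  have := (F.cardA Z.c Z.tt).2 fun _ => cenC fa Z F F' all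
  have := F.ker16 Z.c Z.tt
  omega

theorem actC (hb : b ∈ P ⊓ C1[z]) (h : ν t u = u) : ∃ y ∈ Q, y ∈ P ∧ p y = ν b u + u := by
  obtain ⟨x, hx, rfl⟩ := F.surj u
  exact Z.act_B F.toFm hx (cenC fa Z F F' all hx h).symm hb.1 (mem_cent1.1 hb.2)

theorem semB (ht : t ∉ H) (hT : T ≤ P ⊓ C1[z] ⊓ H) (h : ∀ b ∈ T, ∀ u, ν t u = u → ν b u = u) :
    #T ≤ #(Q ⊓ P : Subgroup G) := card_le_of_le fun b hb => ⟨F.ker (F.Hz (hT hb).2) fun v => by
  obtain ⟨a, a', h1, h2, rfl⟩ := F.dec fa Z.c Z.tt ht v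
  rw [map_add, F.lin (hT hb).2, h b hb a h1, h b hb a' h2], (hT hb).1.1⟩

theorem s2b : 2 < #(Q ⊓ P : Subgroup G) := by
  by_contra h
  push Not at h
  have a1 := (b16 Z F F' le_rfl).2.2 fun _ a _ b => abB fa Z F F' a b
  have a2 := r32 fa Z.symm F' F all
  have a3 := F.halfH (inf_le_right : P ⊓ C1[z] ≤ _)
  have a4 := r32 fa Z F F' all
  by_cases ht : t ∈ H
  · obtain ⟨σ, h1, h2⟩ := exists_nmem (A := P ⊓ C1[z]) (T := H) (by omega)
    have a5 := halfR Z F h h1.1 (mem_cent1.1 h1.2)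
    have a6 := F.sq_le fa (mem_cent1.1 h1.2) h2 (F.CfJ ht)
    have := c16 fa Z F F'
    nlinarith
  have u2 : ∀ y ∈ Q ⊓ P, ∀ y' ∈ Q ⊓ P, y ≠ 1 → y' ≠ 1 → y' = y := fun y a y' b c d => by
    by_contra k
    have := dbl (A := zpowers y) (zpowers_le.2 a) b fun m => (mem_zpowers_invol (Z.ksq a.1 a.2) m).elim d k
    rw [Nat.card_zpowers, orderOf_of_sq (Z.ksq a.1 a.2) c] at this
    omega
  obtain hY | ⟨y, hy, n⟩ := (Q ⊓ P).bot_or_exists_ne_one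
  · have := semB fa Z F F' all ht le_rfl fun b hb u hu => by
      obtain ⟨y, k1, k2, k3⟩ := actC fa Z F F' all hb.1 hu
      rw [show y = 1 from hY.le ⟨k1, k2⟩, F.p1] at k3
      exact eq_of_add F.h2 k3.symm
    omega
  obtain ⟨m, hm⟩ := s1 fa Z F F' _ (fixY Z F.toFm hy.1 hy.2)
  obtain ⟨n0, k1, k2⟩ : ∃ n0, ν t n0 = n0 ∧ β m n0 ≠ 0 := by
    by_contra k
    push Not at k
    obtain ⟨v, e⟩ := F.inW Z.c Z.tt k
    rw [e, F.fixN Z.c Z.tt, F.h2] at hm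
    exact n (Z.p_ne F.toFm hy.1 hy.2 hm)
  let S : Subgroup G := H ⊓ {
    carrier := {b | Commute b z ∧ ν b n0 = n0}
    mul_mem' := fun a b => ⟨a.1.mul_left b.1, by rw [F.nu_mul a.1 b.1, b.2, a.2]⟩
    one_mem' := ⟨.one_left z, F.nu_Q Q.one_mem _⟩
    inv_mem' := fun a => ⟨a.1.inv_left, by nth_rw 1 [← a.2]; exact F.nu_inv a.1 _⟩ }
  have two : ∀ b ∈ P ⊓ C1[z], ∀ u, ν t u = u → ν b u ≠ u → ν b u + u = p y := fun b hb u hu n' => by
    obtain ⟨y', k1, k2, k3⟩ := actC fa Z F F' all hb hu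
    rw [← k3, u2 y hy y' ⟨k1, k2⟩ n fun e => n' (eq_of_add F.h2 (by rw [← k3, e, F.p1]))]
  have a5 := half (B := P ⊓ C1[z] ⊓ H) (S := S) fun a ha b hb h1 h2 => ⟨mul_mem ha.2 hb.2, (F.Hz ha.2).mul_left (F.Hz hb.2), by
    have e1 := two a ha.1 n0 k1 fun e => h1 ⟨ha.2, F.Hz ha.2, e⟩
    have e2 := two b hb.1 n0 k1 fun e => h2 ⟨hb.2, F.Hz hb.2, e⟩
    have e3 := F.nu_fix (F.Hz ha.2) hy.1 (abB fa Z F F' ha.1 ⟨hy.2, mem_cent1.2 (F.Qz hy.1)⟩)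
    rw [← e2, map_add] at e3
    rw [F.nu_mul (F.Hz ha.2) (F.Hz hb.2)]
    linear_combination (norm := abel1) e3 - e1 + e2 - F.h2 (ν b n0) + F.h2 (ν b n0)⟩
  have := semB fa Z F F' all ht (T := P ⊓ C1[z] ⊓ H ⊓ S) inf_le_left fun b hb u hu => by
    by_contra k
    obtain ⟨v, rfl⟩ := s1 fa Z F F' _ hu
    have e := two b hb.1.1 _ hu k
    have cb := F.Hz hb.1.2
    rw [cmt Z F.toFm hb.1.1.1 cb, hm] at e
    have := isoC fa Z F F' k1 (show ν t (ν b v + v + m) = ν b v + v + m by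
      rw [map_add, map_add]; linear_combination (norm := abel1) e + F.h2 (ν t m) - F.h2 (ν b v) - F.h2 v)
    rw [map_add, F.perp_fix cb hb.2.2.2, zero_add, F.symm] at this
    exact k2 this
  omega

theorem s2c : (∀ b ∈ P ⊓ C1[z], ∀ u, ν t u = u → ν b u = u) ∧ #(Q ⊓ P : Subgroup G) ≤ 4 ∧
    ∃ y ∈ Q ⊓ P, ∃ y' ∈ Q ⊓ P, y ≠ 1 ∧ y' ≠ 1 ∧ y' ≠ y := by
  obtain ⟨y, hy, n, -⟩ := exists_ne_of_lt (s2b fa Z F F' all) 1
  obtain ⟨y', hy', n', n2⟩ := exists_ne_of_lt (s2b fa Z F F' all) y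
  have pn : ∀ y ∈ Q ⊓ P, ∀ y' ∈ Q ⊓ P, y' ≠ y → p y ≠ p y' := fun y a y' b c e => ((F.eq_iff a.1 b.1).1 e).elim c
    fun e => Z.symm.tQ ((P.mul_mem_cancel_left a.2).1 (e ▸ b.2))
  obtain ⟨m, hm⟩ := s1 fa Z F F' _ (fixY Z F.toFm hy.1 hy.2)
  obtain ⟨m', hm'⟩ := s1 fa Z F F' _ (fixY Z F.toFm hy'.1 hy'.2)
  refine ⟨fun b hb u hu => ?_, ?_, y, hy, y', hy', n, n', n2⟩
  · obtain ⟨x, k1, k2, k3⟩ := actC fa Z F F' all hb hu
    by_contra k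
    have n3 : x ≠ 1 := fun e => k (eq_of_add F.h2 (by rw [← k3, e, F.p1]))
    obtain ⟨v, rfl⟩ := s1 fa Z F F' _ hu
    have cb := mem_cent1.1 hb.2
    have f : ∀ y ∈ Q ⊓ P, ∀ m, p y = ν t m + m → y ≠ 1 → x = y := fun y hy m hm n => by
      by_contra n4
      have := Z.k6 F.toFm hy.1 hy.2 k1 k2 n n3 (pn y hy x ⟨k1, k2⟩ n4) hm (v := ν b v + v) (by
        rw [k3, cmt Z F.toFm hb.1 cb, map_add]; abel)
      rw [F.perp_fix cb (F.nu_fix cb hy.1 (abB fa Z F F' hb ⟨hy.2, mem_cent1.2 (F.Qz hy.1)⟩))] at this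
      cases this
    exact n2 ((f y' hy' m' hm' n').symm.trans (f y hy m hm n))
  obtain ⟨A, h1, h2, h3⟩ := chX (Q ⊓ P) (fun x => (β (p x) m, β (p x) m')) fun a ha b hb => by simp [F.add ha.1 hb.1]
  rw [show A = ⊥ from eq_bot_iff.2 fun x hx => by_contra fun n3 => ?_, card_bot] at h2
  · simpa using h2
  have f : ∀ y ∈ Q ⊓ P, ∀ m, p y = ν t m + m → y ≠ 1 → β (p x) m = 0 → y = x := fun y hy m hm n e => by
    by_contra n4
    obtain ⟨v, hv⟩ := s1 fa Z F F' _ (fixY Z F.toFm (h1 hx).1 (h1 hx).2)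
    rw [Z.k6 F.toFm (h1 hx).1 (h1 hx).2 hy.1 hy.2 n3 n (pn x (h1 hx) y hy n4) hv hm] at e
    cases e
  exact n2 ((f y' hy' m' hm' n' (congrArg Prod.snd (h3 x hx))).trans (f y hy m hm n (congrArg Prod.fst (h3 x hx))).symm)

omit all in
theorem bad3 (ha : a ∈ P ⊓ C1[z]) (hb : b ∈ P ⊓ C1[z]) (h1 : z * a ∉ D) (h2 : z * b ∉ D) (h3 : z * (a * b) ∉ D)
    (e : p' a = ν' z v + v) : β v (p' b) = 1 := by
  obtain ⟨w, e'⟩ := hkB fa Z F F' hb
  obtain ⟨x, hx, rfl, k⟩ := F'.cj_or Z.c.symm F.zz ha.1 e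
  obtain ⟨x', hx', -, k'⟩ := F'.cj_or Z.c.symm F.zz hb.1 e'
  have k := k.resolve_left fun k => h1 (k ▸ Z.cl _ _ Z.zD)
  have k' := k'.resolve_left fun k => h2 (k ▸ Z.cl _ _ Z.zD)
  refine (z2_cases _).resolve_left fun c => h3 ?_
  have := Z.cl x _ (Z.cl x' _ Z.zD)
  rwa [k', ← conj_mul, ← conj_mul, k, cj_eq_iff_comm.2 (F'.Qz hx), cj_eq_iff_comm.2 ((F'.comm hx hb.1).1 c),
    mul_assoc (z * a), ← (F'.Qz hb.1).eq, mul_assoc, mul_assoc b, F'.zz, mul_one, mul_assoc] at this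

theorem s2d (hb : b ∈ P ⊓ C1[z]) (n : b ∉ Q) : Nat.card (Cf ν b) ≤ 16 := by
  obtain ⟨-, -, y, hy, y', hy', n1, n2, n3⟩ := s2c fa Z F F' all
  have m : ∀ {y}, y ∈ Q ⊓ P → y ∈ P ⊓ C1[z] := fun h => ⟨h.2, mem_cent1.2 (F.Qz h.1)⟩
  have cb := mem_cent1.1 hb.2
  by_contra k
  have bad : ∀ y ∈ Q ⊓ P, z * (y * b) ∉ D := fun y hy h => k (c16' fa Z F all cb n hy.1 (by
    rwa [(abB fa Z F F' (m hy) hb).eq, ← mul_assoc] at h))
  have f : ∀ y ∈ Q ⊓ P, y ≠ 1 → ∀ v, p' y = ν' z v + v → β v (p' b) = 1 := fun y hy n v e =>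
    bad3 fa Z F F' (m hy) hb (fun h => n (Z.symm.k2 hy.1 h)) (by simpa using bad 1 (one_mem _)) (bad y hy) e
  obtain ⟨v, e⟩ := hkB fa Z F F' (m hy)
  obtain ⟨v', e'⟩ := hkB fa Z F F' (m hy')
  have := f _ (mul_mem hy hy') (fun e => n3 (by rw [eq_inv_of_mul_eq_one_right e, inv_eq_of_sq (Z.ksq hy.1 hy.2)])) (v + v')
    (by rw [F'.add hy.2 hy'.2, e, e', map_add]; abel)
  rw [map_add, AddMonoidHom.add_apply, f y hy n1 v e, f y' hy' n2 v' e'] at this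
  cases this

theorem aPD : False := by
  obtain ⟨cB, y4, -⟩ := s2c fa Z F F' all
  have a2 := r32 fa Z.symm F' F all
  have a3 := F.halfH (inf_le_right : P ⊓ C1[z] ≤ _)
  have ht : t ∈ H := by_contra fun ht => by
    have := semB fa Z F F' all ht le_rfl fun b hb => cB b hb.1
    omega
  obtain ⟨u, hu⟩ := not_forall.1 (mt (F.ker Z.c) Z.tQ)
  have iC := fun v => F.CfJ ht v
  have mC := fun {v} => (mem_Cf (t := t) (v := v) F.toFm)
  have bH : ∀ b ∈ P ⊓ C1[z], b ∈ H := fun b hb => by_contra fun k => hu (eq_of_add F.h2 (F.semfix (mem_cent1.1 hb.2) k (fa _)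
    (cB b hb _ (F.fixN Z.c Z.tt u)) (cB b hb _ (mC.1 (iC _ (mC.2 (F.fixN Z.c Z.tt u)))))))
  have c1 := c16 fa Z F F'
  have c2 := F.ker16 Z.c Z.tt
  have eqC : ∀ b ∈ P ⊓ C1[z], b ∉ Q → ∀ v, ν b v = v → ν t v = v := fun b hb n v hv =>
    mC.1 ((AddSubgroup.eq_of_le_of_card_ge (show Cf ν t ≤ Cf ν b from fun v h => (mem_Cf F.toFm).2 (cB b hb v (mC.1 h)))
      ((s2d fa Z F F' all hb n).trans c2)).ge ((mem_Cf F.toFm).2 hv))
  have NC : ∀ b ∈ P ⊓ C1[z], ∀ v, ν t (ν b v + v) = ν b v + v := fun b hb v => by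
    obtain ⟨w, e⟩ := F.inW Z.c Z.tt (w := ν b v + v) fun k hk => by
      rw [F.symm, F.perp_fix (mem_cent1.1 hb.2) (cB b hb k hk)]
    rw [e, F.fixN Z.c Z.tt]
  have bJ' : ∀ x y, β (J x) y = β x y + β x (J y) := fun x y => by
    rw [← F.Jbeta, fa, map_add, AddMonoidHom.add_apply, F.Jbeta]
  let L : AddSubgroup V := Cf ν t ⊓ ((β.flip u).ker ⊓ (β.flip (J u)).ker)
  have mL : ∀ v, v ∈ L ↔ ν t v = v ∧ β v u = 0 ∧ β v (J u) = 0 := fun v => by simp [L, mC]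
  have iL : ∀ v ∈ L, J v ∈ L := fun v h => by
    obtain ⟨h1, h2, h3⟩ := (mL v).1 h
    exact (mL _).2 ⟨mC.1 (iC v (mC.2 h1)), by rw [bJ', h2, h3, add_zero], by rw [F.Jbeta, h2]⟩
  have L4 : Nat.card L ≤ 4 := by
    obtain ⟨w, h1, h2⟩ : ∃ w, ν t w = w ∧ β u w ≠ 0 := by
      by_contra k
      push Not at k
      obtain ⟨v, e⟩ := F.inW Z.c Z.tt k
      exact hu (by rw [e, F.fixN Z.c Z.tt])
    have := J4 F.h2 (fa w) F.J3 (S := L) inf_le_left iL iC (mC.2 h1) fun h => h2 (F.symm _ _ ▸ ((mL w).1 h).2.1)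
    omega
  obtain ⟨n, hn, n0⟩ : ∃ n ∈ L, n ≠ 0 := by
    obtain ⟨A, h1, h2, h3⟩ := chX (Q ⊓ C1[t]) (fun x => (β (p x) u, β (p x) (J u))) fun a ha b hb => by
      simp [F.add ha.1 hb.1]
    have := r32 fa Z F F' all
    simp only [Nat.card_prod, Nat.card_zmod] at h2
    obtain ⟨x, hx, k1, k2⟩ := exists_ne_of_lt (A := A) (by omega) z
    exact ⟨p x, (mL _).2 ⟨F.nu_fix Z.c (h1 hx).1 (mem_cent1.1 (h1 hx).2).symm, congrArg Prod.fst (h3 x hx),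
      congrArg Prod.snd (h3 x hx)⟩, fun e => ((F.p0 (h1 hx).1).1 e).elim k1 k2⟩
  obtain ⟨w, hw⟩ := not_forall.1 (mt (F.nd n) n0)
  have z4 : ∀ m ∈ L, β m w = 0 → β m (J w) = 0 → m = 0 := fun m hm h1 h2 => by
    by_contra k
    have a := J4 F.h2 (fa m) F.J3 (S := ⊥) (S' := Ln F.h2 J m) bot_le (by simp) (Ln_J F.h2 (fa _)) (.inr (.inl rfl)) k
    have le : Ln F.h2 J m ≤ L := by
      rintro _ (rfl | rfl | rfl | rfl)
      exacts [zero_mem _, hm, iL _ hm, add_mem (iL _ hm) hm]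
    rw [AddSubgroup.card_bot] at a
    rcases (AddSubgroup.eq_of_le_of_card_ge le (by omega)).ge hn with rfl | rfl | rfl | rfl
    exacts [n0 rfl, hw h1, hw (by rw [bJ', h1, h2, add_zero]),
      hw (by rw [map_add, AddMonoidHom.add_apply, bJ', h1, h2]; simp)]
  have s0 : ∀ v, ν t v = v → φ v = 0 := fun v h => by
    rw [← F.bJ (fa v)]; exact isoC fa Z F F' h (mC.1 (iC v (mC.2 h)))
  have ad : ∀ b ∈ P ⊓ C1[z], ∀ x y, β (ν b x + x) y = β (ν b y + y) x := fun b hb x y => by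
    have := F.perp_fix (mem_cent1.1 hb.2) (cB b hb _ (NC b hb x)) y
    have k := F.nu_beta (mem_cent1.1 hb.2) x y
    simp only [map_add, AddMonoidHom.add_apply, F.symm (ν b y) x, F.symm y x] at this ⊢
    linear_combination this - k - z2_add (β x (ν b y)) - z2_add (β x y)
  have al : ∀ b ∈ P ⊓ C1[z], ∀ x, β (ν b x + x) x = 0 := fun b hb x => by
    have := s0 _ (NC b hb x)
    rw [F.pol, F.nu_phi (mem_cent1.1 hb.2), z2_add, zero_add] at this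
    rw [map_add, AddMonoidHom.add_apply, this, F.alt, add_zero]
  have NJ : ∀ b ∈ P ⊓ C1[z], ∀ x, ν b (J x) + J x = J (ν b x + x) := fun b hb x => by rw [F.lin (bH b hb), map_add]
  have key : ∀ b ∈ P ⊓ C1[z], ∀ v, ν t v ≠ v → β (ν b u + u) v = 0 → β (ν b u + u) (J v) = 0 → β (ν b w + w) v = 0 →
      β (ν b w + w) (J v) = 0 → b ∈ Q := fun b hb v hv h1 h2 h3 h4 => by_contra fun k => by
    have f : ∀ x, β (ν b x + x) v = 0 → β (ν b x + x) (J v) = 0 → β (ν b v + v) (J x) = 0 := fun x a c => by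
      rw [ad b hb, NJ b hb, bJ', a, c, add_zero]
    exact hv (eqC b hb k v (eq_of_add F.h2 (z4 _ ((mL _).2 ⟨NC b hb v, by rw [ad b hb, h1], f u h1 h2⟩)
      (by rw [ad b hb, h3]) (f w h3 h4))))
  have nC : ∀ m ∈ L, ∀ v, β m v ≠ 0 → ν t v ≠ v := fun m hm v h e => h (isoC fa Z F F' ((mL m).1 hm).1 e)
  have wu : ∀ b ∈ P ⊓ C1[z], β (ν b w + w) (J u) = β (ν b u + u) w + β (ν b u + u) (J w) := fun b hb => by
    rw [ad b hb, NJ b hb, bJ']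
  have mu : ∀ a ∈ P ⊓ C1[z], ∀ b ∈ P ⊓ C1[z], ∀ v, ν (a * b) v + v = ν a v + v + (ν b v + v) := fun a ha b hb v =>
    F.N_mul (mem_cent1.1 ha.2) (mem_cent1.1 hb.2) (cB a ha _ (NC b hb v))
  have ex : ∀ f : G → ZMod 2 × ZMod 2, (∀ a ∈ P ⊓ C1[z], ∀ b ∈ P ⊓ C1[z], f (a * b) = f a + f b) →
      ∃ b ∈ P ⊓ C1[z], b ∉ Q ∧ (f b).1 = 0 ∧ (f b).2 = 0 := fun f hf => by
    obtain ⟨A, h1, h2, h3⟩ := chX _ f hf
    simp only [Nat.card_prod, Nat.card_zmod] at h2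
    have := card_le_of_le (show A ⊓ Q ≤ Q ⊓ P from fun x hx => ⟨hx.2, (h1 hx.1).1⟩)
    obtain ⟨b, k1, k2⟩ := exists_nmem (A := A) (T := Q) (by omega)
    exact ⟨b, h1 k1, k2, congrArg Prod.fst (h3 b k1), congrArg Prod.snd (h3 b k1)⟩
  obtain ⟨b0, p0, q0, r0, t0⟩ := ex (fun b => (β (ν b u + u) w, β (ν b u + u) (J w))) fun a ha b hb => by
    simp only [mu a ha b hb, map_add β (_ + _), AddMonoidHom.add_apply, Prod.mk_add_mk]
  obtain ⟨b1, p1, q1, r1, t1⟩ := ex (fun b => (β (ν b u + u) (J u), β (ν b w + w) (J w))) fun a ha b hb => by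
    simp only [mu a ha b hb, map_add β (_ + _), AddMonoidHom.add_apply, Prod.mk_add_mk]
  dsimp only at r0 t0 r1 t1
  obtain ⟨n1, n2, n3⟩ := (mL n).1 hn
  have hw1 := z2_ne hw
  have e1 := z2_ne fun e => q0 (key b0 p0 u hu (al b0 p0 u) e (by rw [ad b0 p0, r0]) (by rw [wu b0 p0, r0, t0, add_zero]))
  have e2 := z2_ne fun e => q0 (key b0 p0 w (nC n hn w hw) r0 t0 (al b0 p0 w) e)
  have p2 := mul_mem p0 p1
  have fin : b0 * b1 ∉ Q := fun h => by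
    have := mu b0 p0 b1 p1 u
    rw [F.nu_Q h, F.h2] at this
    have := congrArg (β · (J u)) this
    simp only [map_add β (_ + _), AddMonoidHom.add_apply, e1, r1, map_zero, AddMonoidHom.zero_apply] at this
    cases this
  have g1 : β (ν (b0 * b1) u + u) (J u) = 1 := by rw [mu b0 p0 b1 p1, β.map_add, AddMonoidHom.add_apply, e1, r1, add_zero]
  have g2 : β (ν (b0 * b1) w + w) (J w) = 1 := by rw [mu b0 p0 b1 p1, β.map_add, AddMonoidHom.add_apply, e2, t1, add_zero]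
  have g3 : β (ν (b0 * b1) u + u) w = β (ν b1 u + u) w := by
    rw [mu b0 p0 b1 p1, β.map_add, AddMonoidHom.add_apply, r0, zero_add]
  have g4 : β (ν (b0 * b1) u + u) (J w) = β (ν b1 u + u) (J w) := by
    rw [mu b0 p0 b1 p1, β.map_add, AddMonoidHom.add_apply, t0, zero_add]
  have g5 := wu _ p2
  have g6 := ad _ p2 w u
  have g7 := al _ p2 u
  have g8 := al _ p2 w
  rcases z2_cases (β (ν b1 u + u) w) with x1 | x1 <;> rcases z2_cases (β (ν b1 u + u) (J w)) with x2 | x2 <;>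
    rw [x1] at g3 <;> rw [x2] at g4 <;> rw [g3] at g6 <;> rw [g3, g4] at g5
  · exact q1 (key b1 p1 u hu (al b1 p1 u) r1 (by rw [ad b1 p1, x1]) (by rw [wu b1 p1, x1, x2, add_zero]))
  · exact fin (key _ p2 (u + w) (nC n hn _ (by simp [n2, hw1])) (by rw [(β _).map_add, g7, g3]; rfl)
      (by rw [J.map_add, (β _).map_add, g1, g4]; rfl) (by rw [(β _).map_add, g6, g8]; rfl)
      (by rw [J.map_add, (β _).map_add, g5, g2]; rfl))
  · exact fin (key _ p2 (u + J w) (nC _ (iL n hn) _ (by rw [(β _).map_add, F.Jbeta, bJ', n2, n3, hw1]; decide))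
      (by rw [(β _).map_add, g7, g4]; rfl) (by rw [J.map_add, fa, (β _).map_add, (β _).map_add, g1, g3, g4]; rfl)
      (by rw [(β _).map_add, g6, g2]; rfl) (by rw [J.map_add, fa, (β _).map_add, (β _).map_add, g5, g2, g8]; rfl))
  · exact fin (key _ p2 (u + J (J w)) (nC _ (iL _ (iL n hn)) _ (by
        rw [(β _).map_add, F.Jbeta, F.Jbeta, hw1, ((mL _).1 (iL _ (iL n hn))).2.1]; decide))
      (by rw [fa, (β _).map_add, (β _).map_add, g7, g4, g3]; rfl) (by rw [J.map_add, F.J3, (β _).map_add, g1, g3]; rfl)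
      (by rw [fa, (β _).map_add, (β _).map_add, g6, g2, g8]; rfl) (by rw [J.map_add, F.J3, (β _).map_add, g5, g8]; rfl))

end Cfsg.Agent.A6N
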