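import Cfsg.Agent.A6N.A1

/-! The case where `J` has no fixed points (helper24): the structure `QS` of a conjugate `t ∈ Q` of `z`. -/

set_option autoImplicit false
set_option linter.unusedSectionVars false

namespace Cfsg.Agent.A6N

open Cfsg.Agent.Fischer Cfsg.Agent.FI Subgroup Cfsg.Agent.BG Cfsg.Agent.LES Cfsg.Agent.PGrp Cfsg.Agent.U6R

variable {G : Type*} [Group G] [Finite G] {V : Type*} [AddCommGroup V] [Finite V] {z t x y a b g r d : G}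
  {Q H P K A T : Subgroup G} {p p' : G → V} {φ : V → ZMod 2} {β : V →+ V →+ ZMod 2} {ν ν' : G → V →+ V} {u v w n m : V}
  {J : V →+ V} {D : Set G} {S S' : AddSubgroup V}

theorem cardle {X : Type*} [Finite X] (f : T → X) (h : ∀ a b, f a = f b → a.1⁻¹ * b ∈ Q) :
    #T ≤ Nat.card X * #(T ⊓ Q : Subgroup G) := by
  rw [card_eq_card_quotient_mul_card_subgroup (Q.subgroupOf T), ← inf_subgroupOf_left,
    Nat.card_congr (subgroupOfEquivOfLe inf_le_left).toEquiv]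
  refine Nat.mul_le_mul_right _ (Nat.card_le_card_of_injective (fun x => f x.out) fun x y e => ?_)
  rw [← x.out_eq', ← y.out_eq', QuotientGroup.eq]
  exact ⟨(x.out⁻¹ * y.out).2, h _ _ e⟩

/-- The image of `Q ⊓ P`. -/
def pA (F : Fm z Q H p φ β ν) (P : Subgroup G) : AddSubgroup V where
  carrier := {w | ∃ y ∈ Q, y ∈ P ∧ p y = w}
  zero_mem' := ⟨1, one_mem _, one_mem _, F.p1⟩
  add_mem' := by rintro _ _ ⟨x, a, b, rfl⟩ ⟨y, c, d, rfl⟩; exact ⟨_, mul_mem a c, mul_mem b d, F.add a c⟩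
  neg_mem' := fun {x} h => by rwa [neg_eq_of_add_eq_zero_left (F.h2 x)]

theorem pre_pA (F : Fm z Q H p φ β ν) (zP : z ∈ P) : F.pre (pA F P) = Q ⊓ P :=
  le_antisymm (fun x ⟨a, y, b, c, e⟩ => ⟨a, by
    rcases (F.eq_iff b a).1 e with rfl | rfl
    exacts [c, mul_mem c zP]⟩) fun x h => ⟨h.1, x, h.1, h.2, rfl⟩

theorem maxiso (F : Fm z Q H p φ β ν) (h : ∀ u ∈ S, ∀ v ∈ S, β u v = 0) (c : 16 ≤ Nat.card S) (k : ∀ u ∈ S, β u w = 0) :
    w ∈ S := by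
  obtain ⟨x, hx, rfl⟩ := F.surj w
  exact (F.ab32' (A := F.pre S) (fun _ h => h.1) ⟨F.es.zQ, F.pz ▸ zero_mem _⟩
    (fun a ha b hb => (F.comm ha.1 hb.1).1 (h _ ha.2 _ hb.2)) (by rw [card_pre]; omega) hx
    fun a ha => (F.comm ha.1 hx).1 (k _ ha.2)).2

theorem adj' (F : Fm z Q H p φ β ν) (hb : Commute b z) (h : b * b ∈ Q) (u v : V) :
    β (ν b u + u) v = β (ν b v + v) u := by
  rw [F.symm _ u, map_add, map_add, AddMonoidHom.add_apply, ← F.nu_beta hb (ν b u), F.nu_sq hb h]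

theorem Ln_le (hn : n ∈ S) (h : J n ∈ S) (h2 : ∀ v : V, v + v = 0) : Ln h2 J n ≤ S := by
  rintro _ (rfl | rfl | rfl | rfl)
  exacts [zero_mem _, hn, h, add_mem h hn]

/-- The structure of a pair `z`, `t` with `t ∈ Q`. -/
structure QS (F : AF z Q H p φ β ν J) (t : G) (P : Subgroup G) : Prop where
  v0 : p t ≠ 0
  ab : ∀ x ∈ Q ⊓ P, ∀ y ∈ Q ⊓ P, Commute x y
  q1 : J (p t) ∈ pA F.toFm P
  q2 : ∀ m ∈ pA F.toFm P, J m ∈ pA F.toFm P → m ∈ Ln F.h2 J (p t)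
  q3 : 32 ≤ #(Q ⊓ P : Subgroup G)
  lo : 128 ≤ #(P ⊓ C1[z] ⊓ H : Subgroup G)
  hi : #(P ⊓ C1[z] ⊓ H : Subgroup G) ≤ 128
  bv : ∀ b ∈ P ⊓ C1[z], ν b (p t) = p t
  sq : ∀ b ∈ P, b * b ∈ Q
  cm : ∀ a ∈ P, ∀ b ∈ P, a * b * a⁻¹ * b⁻¹ ∈ Q
  rk : ∀ b ∈ P ⊓ C1[z] ⊓ H, b ∉ Q → Nat.card (Cf ν b) ≤ 16 ∧ (∀ u ∈ Cf ν b, ∀ w ∈ Cf ν b, β u w = 0) ∧
    ∃ m ∈ pA F.toFm P, m ∈ Cf ν b ∧ m ∉ Ln F.h2 J (p t)
  fx : ∀ w, (∀ b ∈ P ⊓ C1[z] ⊓ H, ν b w = w) → w ∈ Ln F.h2 J (p t)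

variable (fa : ∀ v, J (J v) = J v + v) (F : AF z Q H p φ β ν J)
include fa F

theorem Ln4 (h : n ≠ 0) : 4 ≤ Nat.card (Ln F.h2 J n) := by
  simpa using J4 F.h2 (fa n) F.J3 (S := ⊥) (S' := Ln F.h2 J n) bot_le (by simp) (Ln_J F.h2 (fa _)) (.inr (.inl rfl)) h

theorem bJ' (x y : V) : β (J x) y = β x y + β x (J y) := by
  rw [← F.Jbeta, fa, map_add, AddMonoidHom.add_apply, F.Jbeta]

theorem Jne (h : J v = v) : v = 0 := by have := fa v; rw [h, h, F.h2] at this; exact this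

theorem ex_u0 (h : v ≠ 0) : ∃ u, β v u = 0 ∧ β (J v) u = 1 := by
  obtain ⟨x, hx⟩ := not_forall.1 (mt (F.nd v) h)
  have hx := z2_ne hx
  rcases z2_cases (β (J v) x) with e | e
  · exact ⟨J x + x, by rw [map_add, F.symm v (J x), bJ' fa F, F.symm x, F.symm x, e, hx]; rfl, by rw [map_add, F.Jbeta, e, hx]; rfl⟩
  · exact ⟨J x, by rw [F.symm, bJ' fa F, F.symm x, F.symm x, e, hx]; rfl, by rw [F.Jbeta, hx]⟩

set_option maxHeartbeats 1600000 in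
theorem qs (F' : AF t P K p' φ β ν' J) (tQ : t ∈ Q) (zP : z ∈ P) (ne : t ≠ z) : QS F t P := by
  obtain ⟨v, hv⟩ : ∃ v, v = p t := ⟨_, rfl⟩
  have v0 : v ≠ 0 := fun h => ((F.p0 tQ).1 (hv ▸ h)).elim F'.es.z1 ne
  have cen : ∀ {b y}, Commute b z → b ∈ P → y ∈ Q → y ∈ P → ν b (p y) = p y → Commute b y := fun {b y} h1 h2 h3 h4 e => by
    rcases (F.eq_iff h3 (F.cjm h1 h3)).1 (by rw [F.act h1 h3, e]) with k | k
    · exact cj_eq_iff_comm.1 k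
    · exact cj_eq_iff_comm.1 ((F'.es.comm b h2 y h4).resolve_right fun k' => ne (mul_left_cancel (k'.symm.trans k)))
  have ab : ∀ x ∈ Q ⊓ P, ∀ y ∈ Q ⊓ P, Commute x y := fun x a y b => cen (F.Qz a.1) a.2 b.1 b.2 (F.nu_Q a.1 _)
  have Yb : ∀ {u w}, u ∈ pA F.toFm P → w ∈ pA F.toFm P → β u w = 0 := by
    rintro _ _ ⟨x, a, a', rfl⟩ ⟨y, b, b', rfl⟩; exact (F.comm a b).2 (ab x ⟨a, a'⟩ y ⟨b, b'⟩)
  have Yq : ∀ {u}, u ∈ pA F.toFm P → φ u = 0 := by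
    rintro _ ⟨x, a, a', rfl⟩
    exact (F.sq a).2 ((F.es.sq x a).resolve_right fun k => (F'.es.sq x a').elim
      (fun k' => F.es.z1 (k.symm.trans k')) fun k' => ne (k'.symm.trans k))
  have vA : v ∈ pA F.toFm P := ⟨t, tQ, F'.es.zQ, hv.symm⟩
  have AB : ∀ {b}, b ∈ P ⊓ C1[z] → ∀ x, β v x = 0 → ν b x + x ∈ pA F.toFm P := fun {b} h x hx => by
    obtain ⟨x, a, rfl⟩ := F.surj x
    have h1 := mem_cent1.1 h.2
    have := F'.cjm ((F.comm tQ a).1 (hv ▸ hx)).symm (inv_mem h.1)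
    exact ⟨_, mul_mem (F.cjm h1 a) (inv_mem a), by simpa [mul_assoc] using mul_mem h.1 this, F.nu_comm h1 a⟩
  have bv : ∀ b ∈ P ⊓ C1[z], ν b v = v := fun b h => hv ▸ F.nu_fix (mem_cent1.1 h.2) tQ (F'.Qz h.1)
  have sq : ∀ b ∈ P, b * b ∈ Q := fun b h => by rcases F'.es.sq b h with e | e <;> simp [e, tQ]
  have cm : ∀ a ∈ P, ∀ b ∈ P, a * b * a⁻¹ * b⁻¹ ∈ Q := fun a ha b hb => by
    rcases F'.es.comm a ha b hb with e | e <;> rw [e]
    · simp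
    · rwa [(F'.Qz hb).eq, mul_inv_cancel_right]
  have A0 : ∀ m ∈ pA F.toFm P, J m ∈ pA F.toFm P → ∀ b ∈ P ⊓ C1[z] ⊓ H, ν b m = m := fun m h1 h2 b hb => by
    have f : ∀ m ∈ pA F.toFm P, ν b m = m ∨ ν b m = m + v := by
      rintro _ ⟨y, a, a', rfl⟩
      rw [← F.act (F.Hz hb.2) a]
      exact (F'.es.comm b hb.1.1 y a').imp (fun e => by rw [e]) fun e => by rw [e, F.add a tQ, hv]
    refine (f m h1).resolve_right fun e => v0 ?_
    have := f _ h2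
    rw [F.lin hb.2, e, map_add, add_eq_left, add_right_inj] at this
    exact this.elim F.J0 (Jne fa F)
  have lo : 128 ≤ #(P ⊓ C1[z] ⊓ H : Subgroup G) := by
    have := F.halfH (inf_le_right : P ⊓ C1[z] ≤ _)
    have := F'.cardB zP
    omega
  let Fx : AddSubgroup V := pA F.toFm P ⊓ ⨅ b ∈ P ⊓ C1[z] ⊓ H, Cf ν b
  have mF : ∀ w, w ∈ Fx ↔ w ∈ pA F.toFm P ∧ ∀ b ∈ P ⊓ C1[z] ⊓ H, ν b w = w := fun w => by
    simp only [Fx, AddSubgroup.mem_inf, AddSubgroup.mem_iInf, mem_Cf F.toFm]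
  have cc : #(P ⊓ C1[z] ⊓ H : Subgroup G) * Nat.card Fx ≤ 512 := by
    have le : F.pre Fx ≤ Q ⊓ P := pre_pA F.toFm zP ▸ fun x h => ⟨h.1, h.2.1⟩
    have := F'.es.card_cent (le.trans inf_le_right) ⟨tQ, hv ▸ (mF v).2 ⟨vA, fun b hb => bv b hb.1⟩⟩
    have k := card_le_of_le (show P ⊓ C1[z] ⊓ H ≤ P ⊓ C[F.pre Fx] from fun b hb => ⟨hb.1.1, fun y hy =>
      (cen (F.Hz hb.2) hb.1.1 hy.1 (le hy).2 (((mF _).1 hy.2).2 b hb)).symm⟩)
    rw [card_pre, F'.cardQ] at this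
    nlinarith
  have c4 : Nat.card Fx ≤ 4 := by nlinarith
  have eL : ∀ m ∈ pA F.toFm P, J m ∈ pA F.toFm P → m ≠ 0 → Ln F.h2 J m = Fx := fun m h1 h2 h3 =>
    AddSubgroup.eq_of_le_of_card_ge (Ln_le ((mF _).2 ⟨h1, A0 m h1 h2⟩)
      ((mF _).2 ⟨h2, A0 _ h2 (fa m ▸ add_mem h2 h1)⟩) _) (c4.trans (Ln4 fa F h3))
  obtain ⟨u, u1, u2⟩ := ex_u0 fa F v0
  have u3 : β v (J u) = 1 := by rw [F.symm, bJ' fa F, F.symm u, F.symm u, u1, u2, zero_add]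
  have u4 : β (J v) (J u) = 0 := by rw [F.Jbeta, u1]
  have gen : ∀ {W : AddSubgroup V}, (∀ x, β v x = 0 → β (J v) x = 0 → x ∈ W) → u ∈ W → J u ∈ W → ∀ x, x ∈ W :=
    fun {W} h a b x => by
      rcases z2_cases (β v x) with e | e <;> rcases z2_cases (β (J v) x) with e' | e'
      · exact h x e e'
      · exact (W.add_mem_cancel_right a).1 (h _ (by rw [map_add, e, u1]; rfl) (by rw [map_add, e', u2]; rfl))
      · exact (W.add_mem_cancel_right b).1 (h _ (by rw [map_add, e, u3]; rfl) (by rw [map_add, e', u4]; rfl))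
      · exact (W.add_mem_cancel_right (add_mem a b)).1 (h _ (by rw [map_add, map_add, e, u1, u3]; rfl)
          (by rw [map_add, map_add, e', u2, u4]; rfl))
  have perpT : ∀ w, (∀ x, β v x = 0 → β (J v) x = 0 → β w x = 0) → w ∈ Ln F.h2 J v := fun w h => by
    have f : ∀ l, (∀ x, β v x = 0 → β (J v) x = 0 → β l x = 0) → β w u = β l u → β w (J u) = β l (J u) → w = l :=
      fun l k a b => eq_of_add F.h2 (F.nd _ (gen (W := (β (w + l)).ker) (fun x c d => by simp [h x c d, k x c d])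
        (by simp [a, z2_add]) (by simp [b, z2_add])))
    rcases z2_cases (β w u) with e | e <;> rcases z2_cases (β w (J u)) with e' | e'
    exacts [.inl (f 0 (by simp) (by simpa) (by simpa)), .inr (.inl (f v (fun _ a _ => a) (e.trans u1.symm) (e'.trans u3.symm))),
      .inr (.inr (.inl (f _ (fun _ _ a => a) (e.trans u2.symm) (e'.trans u4.symm)))),
      .inr (.inr (.inr (f _ (fun _ a b => by simp [a, b]) (by simp [e, u1, u2]) (by simp [e', u3, u4]))))]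
  have L0 : ∀ l ∈ Ln F.h2 J v, β l u = 0 → β l (J u) = 0 → l = 0 := by
    rintro _ (rfl | rfl | rfl | rfl) a b
    · rfl
    · rw [u3] at b; cases b
    · rw [u2] at a; cases a
    · rw [map_add, AddMonoidHom.add_apply, u1, u2] at a; cases a
  have NJ : ∀ b ∈ H, ∀ x, ν b (J x) + J x = J (ν b x + x) := fun b hb x => by rw [F.lin hb, map_add]
  have TJ : ∀ x, β v x = 0 → β (J v) x = 0 → β v (J x) = 0 := fun x a b => by
    rw [F.symm, bJ' fa F, F.symm x, F.symm x, a, b, add_zero]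
  have inQ : ∀ b ∈ H, (∀ x, β v x = 0 → β (J v) x = 0 → ν b x = x) → ν b u = u → b ∈ Q := fun b hb h e =>
    F.ker (F.Hz hb) fun x => (mem_Cf F.toFm).1 (gen (fun x a c => (mem_Cf F.toFm).2 (h x a c)) ((mem_Cf F.toFm).2 e)
      (F.CfJ hb _ ((mem_Cf F.toFm).2 e)) x)
  have a32 := F.ab32 inf_le_left ⟨F.es.zQ, zP⟩ ab
  have BQ : #(P ⊓ C1[z] ⊓ H ⊓ Q : Subgroup G) ≤ #(Q ⊓ P : Subgroup G) := card_le_of_le fun x h => ⟨h.2, h.1.1.1⟩
  have q1 : J v ∈ pA F.toFm P := by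
    by_cases k : ∃ m ∈ pA F.toFm P, J m ∈ pA F.toFm P ∧ m ≠ 0
    · obtain ⟨m, h1, h2, h3⟩ := k
      exact ((mF _).1 (eL m h1 h2 h3 ▸ Ln_J F.h2 (fa m) v ((eL m h1 h2 h3).ge ((mF v).2 ⟨vA, fun b hb => bv b hb.1⟩)))).1
    push Not at k
    by_contra n
    have f : ∀ b ∈ P ⊓ C1[z] ⊓ H, ∀ x, β v x = 0 → β (J v) x = 0 → ν b x = x := fun b hb x a c =>
      eq_of_add F.h2 (k _ (AB hb.1 x a) (NJ b hb.2 x ▸ AB hb.1 _ (TJ x a c)))
    have f' : ∀ b ∈ P ⊓ C1[z] ⊓ H, b ∉ Q → ν b u + u = v := fun b hb c => by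
      have m := AB hb.1 u u1
      rcases perpT (ν b u + u) fun x a c => by rw [F.symm, F.perp_fix (F.Hz hb.2) (f b hb x a c)] with e | e | e | e
      exacts [absurd (inQ b hb.2 (f b hb) (eq_of_add F.h2 e)) c, e, absurd (e ▸ m) n,
        absurd ((AddSubgroup.add_mem_cancel_right _ vA).1 (e ▸ m)) n]
    have := half (B := P ⊓ C1[z] ⊓ H) (S := Q) fun a ha b hb c d => inQ _ (mul_mem ha.2 hb.2) (f _ (mul_mem ha hb)) (by
      have e := bv a ha.1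
      rw [← f' b hb d, map_add] at e
      rw [F.nu_mul (F.Hz ha.2) (F.Hz hb.2)]
      linear_combination (norm := abel1) e - f' a ha c + f' b hb d)
    omega
  have eF := eL v vA q1 v0
  have q2 : ∀ m ∈ pA F.toFm P, J m ∈ pA F.toFm P → m ∈ Ln F.h2 J v := fun m a b => eF.ge ((mF m).2 ⟨a, A0 m a b⟩)
  have hi : #(P ⊓ C1[z] ⊓ H : Subgroup G) ≤ 128 := by have := Ln4 fa F v0; rw [eF] at this; nlinarith
  have NT : ∀ b ∈ P ⊓ C1[z] ⊓ H, ∀ x, β v x = 0 → β (J v) x = 0 → ν b x + x ∈ Ln F.h2 J v := fun b hb x a c =>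
    q2 _ (AB hb.1 x a) (NJ b hb.2 x ▸ AB hb.1 _ (TJ x a c))
  have fT : ∀ b ∈ P ⊓ C1[z] ⊓ H, ν b u + u ∈ Ln F.h2 J v → ∀ x, β v x = 0 → β (J v) x = 0 → ν b x = x := fun b hb h x a c => by
    have f : ∀ l ∈ Ln F.h2 J v, β l x = 0 := by rintro _ (rfl | rfl | rfl | rfl) <;> simp [a, c]
    exact eq_of_add F.h2 (L0 _ (NT b hb x a c) (by rw [adj' F.toFm (F.Hz hb.2) (sq b hb.1.1), f _ h])
      (by rw [adj' F.toFm (F.Hz hb.2) (sq b hb.1.1), NJ b hb.2, f _ (Ln_J F.h2 (fa v) _ h)]))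
  have q3 : 32 ≤ #(Q ⊓ P : Subgroup G) := by
    have := cardle (T := P ⊓ C1[z] ⊓ H) (Q := Q) (X := (pA F.toFm P ⊓ (β.flip u).ker : AddSubgroup V))
      (fun b => ⟨ν b u + u, AB b.2.1 u u1, by
        have := Yq (AB b.2.1 u u1)
        rw [F.pol, F.nu_phi (F.Hz b.2.2), z2_add, zero_add] at this
        show β (_ + _) u = 0
        rw [map_add, AddMonoidHom.add_apply, this, F.alt, add_zero]⟩) fun a b e => by
      have e : ν a u = ν b u := add_right_cancel (congrArg Subtype.val e :)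
      have m := mul_mem (inv_mem a.2) b.2
      have k : ν (a.1⁻¹ * b) u = u := by rw [F.nu_mul (F.Hz a.2.2).inv_left (F.Hz b.2.2), ← e, F.nu_inv (F.Hz a.2.2)]
      exact inQ _ m.2 (fT _ m (by rw [k, F.h2]; exact zero_mem _)) k
    obtain ⟨y, a, b, e⟩ := q1
    have k := dbl (A := F.pre (pA F.toFm P ⊓ (β.flip u).ker)) (B := Q ⊓ P)
      (pre_pA F.toFm zP ▸ fun x h => ⟨h.1, h.2.1⟩) ⟨a, b⟩ fun h => by
        have : β (p y) u = 0 := h.2.2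
        rw [e, u2] at this; cases this
    have k' := card_pre F.toFm (pA F.toFm P)
    rw [card_pre] at k
    rw [pre_pA _ zP] at k'
    by_contra n
    have := AddSubgroup.card_dvd_of_le (le_top : pA F.toFm P ≤ ⊤)
    rw [AddSubgroup.card_top, F.card] at this
    have k8 : Nat.card (pA F.toFm P) ≤ 8 := by
      have : Nat.card (pA F.toFm P) < 16 := by omega
      generalize Nat.card (pA F.toFm P) = s at *
      interval_cases s <;> omega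
    nlinarith
  have AT : ∀ m ∈ pA F.toFm P, ∀ b ∈ P ⊓ C1[z] ⊓ H, ν b u + u ∈ Ln F.h2 J v → ν b m = m := fun m hm b hb h =>
    fT b hb h m (Yb vA hm) (Yb q1 hm)
  have fN : ∀ b ∈ P ⊓ C1[z], ∀ x, ν b (ν b x + x) = ν b x + x := fun b hb x => by
    rw [map_add, F.nu_sq (mem_cent1.1 hb.2) (sq b hb.1), add_comm]
  have nt : ∀ b ∈ P ⊓ C1[z] ⊓ H, b ∉ Q → ν b u + u ∉ Ln F.h2 J v := fun s hs ns h => by
    obtain ⟨b, hb, nb⟩ : ∃ b ∈ P ⊓ C1[z] ⊓ H, ν b u + u ∉ Ln F.h2 J v := by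
      by_contra k
      push Not at k
      have := AddSubgroup.card_le_of_le (show pA F.toFm P ≤ Fx from fun m hm => (mF m).2 ⟨hm, fun b hb => AT m hm b hb (k b hb)⟩)
      have k' := card_pre F.toFm (pA F.toFm P)
      rw [pre_pA _ zP] at k'
      omega
    let E : V → Subgroup G := fun m => (P ⊓ C1[z] ⊓ H) ⊓ {
      carrier := {b | Commute b z ∧ ν b m = m}
      mul_mem' := fun a b => ⟨a.1.mul_left b.1, by rw [F.nu_mul a.1 b.1, b.2, a.2]⟩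
      one_mem' := ⟨.one_left z, F.nu_Q Q.one_mem _⟩
      inv_mem' := fun a => ⟨a.1.inv_left, by nth_rw 1 [← a.2]; exact F.nu_inv a.1 _⟩ }
    let E' := ⨅ x : {x // β v x = 0 ∧ β (J v) x = 0}, E x
    have m := AB hb.1 u u1
    have k1 := dbl (A := Q ⊓ P) (B := E') (fun y hy => mem_iInf.2 fun x =>
      ⟨⟨⟨hy.2, mem_cent1.2 (F.Qz hy.1)⟩, F.QH hy.1⟩, F.Qz hy.1, F.nu_Q hy.1 _⟩)
      (mem_iInf.2 fun x => ⟨hs, F.Hz hs.2, fT s hs h x x.2.1 x.2.2⟩) fun h => ns h.1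
    have k2 := dbl (A := E') (B := E (ν b u + u)) (iInf_le (fun x : {x // β v x = 0 ∧ β (J v) x = 0} => E x)
      ⟨_, Yb vA m, Yb q1 m⟩) ⟨hb, F.Hz hb.2, fN b hb.1 u⟩ fun h => nb (perpT _ fun x a c => by
        rw [F.symm, F.perp_fix (F.Hz hb.2) (mem_iInf.1 h ⟨x, a, c⟩).2.2])
    have := eq_of_le_of_card_ge (H := E (ν b u + u)) (K := P ⊓ C1[z] ⊓ H) inf_le_left (by omega)
    exact nb (eF.ge ((mF _).2 ⟨m, fun c hc => (this.ge hc).2.2⟩))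
  have rk : ∀ b ∈ P ⊓ C1[z] ⊓ H, b ∉ Q → Nat.card (Cf ν b) ≤ 16 ∧ (∀ u ∈ Cf ν b, ∀ w ∈ Cf ν b, β u w = 0) ∧
      ν b u + u ∈ Cf ν b := fun b hb n => by
    let N := (ν b + AddMonoidHom.id V).range
    have iN : ∀ v ∈ N, J v ∈ N := by rintro _ ⟨v, rfl⟩; exact ⟨J v, NJ b hb.2 v⟩
    obtain ⟨x, a, c, e⟩ : ∃ x, β v x = 0 ∧ β (J v) x = 0 ∧ ν b x + x ≠ 0 := by
      by_contra k
      push Not at k
      exact nt b hb n (perpT _ fun x a c => by rw [F.symm, F.perp_fix (F.Hz hb.2) (eq_of_add F.h2 (k x a c))])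
    have e1 : Ln F.h2 J (ν b x + x) = Ln F.h2 J v := AddSubgroup.eq_of_le_of_card_ge
      (Ln_le (NT b hb x a c) (Ln_J F.h2 (fa v) _ (NT b hb x a c)) _) ((Ln_card _ _).trans (Ln4 fa F e))
    have k1 := J4 F.h2 (fa _) F.J3 (S' := N) (e1 ▸ Ln_le (S := N) ⟨x, rfl⟩ (iN _ ⟨x, rfl⟩) _) (Ln_J F.h2 (fa v)) iN ⟨u, rfl⟩
      (nt b hb n)
    have k2 := F.card_ker (t := b)
    have k3 := Ln4 fa F v0
    change Nat.card (Cf ν b) * Nat.card N = _ at k2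
    have k4 : Nat.card (Cf ν b) ≤ 16 := by nlinarith
    have le : N ≤ Cf ν b := by rintro _ ⟨v, rfl⟩; exact (mem_Cf F.toFm).2 (fN b hb.1 v)
    refine ⟨k4, fun x hx w hw => ?_, le ⟨u, rfl⟩⟩
    obtain ⟨w, rfl⟩ := (AddSubgroup.eq_of_le_of_card_ge le (by omega)).ge hw
    exact F.perp_fix (F.Hz hb.2) ((mem_Cf F.toFm).1 hx) w
  subst hv
  refine ⟨v0, ab, q1, q2, q3, lo, hi, bv, sq, cm, fun b hb n => ⟨(rk b hb n).1, (rk b hb n).2.1, _, AB hb.1 u u1,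
    (rk b hb n).2.2, nt b hb n⟩, fun w hw => by_contra fun n => ?_⟩
  obtain ⟨b, hb, nb⟩ := exists_nmem (A := P ⊓ C1[z] ⊓ H) (T := Q) (by omega)
  let W : AddSubgroup V := ⨅ b ∈ P ⊓ C1[z] ⊓ H, Cf ν b
  have mW : ∀ w, w ∈ W ↔ ∀ b ∈ P ⊓ C1[z] ⊓ H, ν b w = w := fun w => by
    simp only [W, AddSubgroup.mem_iInf, mem_Cf F.toFm]
  have k1 := J4 F.h2 (fa w) F.J3 (S' := W) (eF ▸ inf_le_right) (Ln_J F.h2 (fa _))
    (fun v h => (mW _).2 fun b hb => by rw [F.lin hb.2, (mW v).1 h b hb]) ((mW w).2 hw) n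
  have k3 := Ln4 fa F v0
  have := AddSubgroup.eq_of_le_of_card_ge (show W ≤ Cf ν b from fun w h => (mem_Cf F.toFm).2 ((mW w).1 h b hb))
    (by have := (rk b hb nb).1; omega)
  exact nt b hb nb (eF.ge ⟨AB hb.1 u u1, this.ge (rk b hb nb).2.2⟩)

end Cfsg.Agent.A6N
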