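import Cfsg.Agent.A6N.A2

/-! The case where `J` has no fixed points (helper24): `z` is weakly closed in `Q` (`aQ`). -/

set_option autoImplicit false
set_option linter.unusedSectionVars false
set_option maxRecDepth 100000

namespace Cfsg.Agent.A6N

open Cfsg.Agent.Fischer Cfsg.Agent.FI Subgroup Cfsg.Agent.BG Cfsg.Agent.LES Cfsg.Agent.PGrp Cfsg.Agent.U6R Equiv
open Equiv.Perm (sign)

variable {G : Type*} [Group G] [Finite G] {V : Type*} [AddCommGroup V] [Finite V] {z t x y a b g r d e h k : G}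
  {Q H P K A T : Subgroup G} {p p' : G → V} {φ : V → ZMod 2} {β : V →+ V →+ ZMod 2} {ν ν' : G → V →+ V} {u v w n m : V}
  {J : V →+ V} {ρ : G → Perm (Fin 3) × Perm (Fin 6)} {s s' i j c c' : Perm (Fin 6)}

/-- The central involution of the standard `D₈`. -/
def e0 : Perm (Fin 6) := swap 0 1 * swap 2 3
/-- The four-group generated by `e0` and `i`. -/
def V4 (i s : Perm (Fin 6)) : Prop := s = 1 ∨ s = e0 ∨ s = i ∨ s = e0 * i
instance V4dec (i s : Perm (Fin 6)) : Decidable (V4 i s) := by unfold V4; infer_instance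

/-- A four-group of the standard `D₈` and an element of order three in its normaliser. -/
structure FG (i c : Perm (Fin 6)) : Prop where
  si : sign i = 1
  sc : sign c = 1
  ii : i * i = 1
  ei : i * e0 = e0 * i
  n1 : i ≠ 1 ∧ i ≠ e0
  cj : c * e0 * c⁻¹ = i ∨ c * e0 * c⁻¹ = e0 * i
  cj' : V4 i (c⁻¹ * e0 * c) ∧ V4 i (c⁻¹ * i * c)
  dec : ∃ j j', sign j = 1 ∧ sign j' = 1 ∧ j * j = 1 ∧ j' * j' = 1 ∧ c = j * j' ∧ V4 i (j⁻¹ * e0 * j) ∧ V4 i (j⁻¹ * i * j) ∧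
    V4 i (j'⁻¹ * e0 * j') ∧ V4 i (j'⁻¹ * i * j')
  nrm : ∀ s, s * s = 1 → s * e0 = e0 * s → i⁻¹ * s * i = s ∨ i⁻¹ * s * i = s * e0

/-- generators -/
def ia : Perm (Fin 6) := swap 0 2 * swap 1 3
/-- generators -/
def ib : Perm (Fin 6) := swap 0 1 * swap 4 5
/-- generators -/
def ra : Perm (Fin 6) := swap 0 2 * swap 0 1
/-- generators -/
def rb : Perm (Fin 6) := swap 0 4 * swap 0 2 * (swap 1 5 * swap 1 3)

theorem fga : FG ia ra := ⟨by decide, by decide, by decide, by decide, by decide, by decide, by decide,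
  ⟨swap 0 2 * swap 4 5, swap 0 1 * swap 4 5, by decide⟩, by decide +kernel⟩
theorem fgb : FG ib rb := ⟨by decide, by decide, by decide, by decide, by decide, by decide, by decide,
  ⟨swap 0 4 * swap 1 5, swap 0 2 * swap 1 3, by decide⟩, by decide +kernel⟩
theorem nab : ia * ib ≠ ib * ia := by decide
theorem disa : ∀ s, V4 ia s → V4 ia (rb⁻¹ * s * rb) → s = 1 := by rintro _ (rfl | rfl | rfl | rfl) <;> decide
theorem disb : ∀ s, V4 ib s → V4 ib (ra⁻¹ * s * ra) → s = 1 := by rintro _ (rfl | rfl | rfl | rfl) <;> decide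
theorem cyc : ∀ s : Perm (Fin 6), s * s = 1 → s ≠ 1 → sign s = 1 → s.cycleType = {2, 2} := by decide +kernel
theorem cj0 (h1 : s * s = 1) (h2 : s ≠ 1) (h3 : sign s = 1) : ∃ g, sign g = 1 ∧ g * s * g⁻¹ = e0 := by
  obtain ⟨g, e⟩ := isConj_iff.1 (Perm.isConj_of_cycleType_eq ((cyc s h1 h2 h3).trans (cyc e0 (by decide) (by decide)
    (by decide)).symm))
  rcases Int.units_eq_one_or (sign g) with k | k
  · exact ⟨g, k, e⟩
  · refine ⟨swap 4 5 * g, by simp [k], ?_⟩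
    rw [mul_inv_rev, ← mul_assoc, mul_assoc (swap 4 5), mul_assoc (swap 4 5), e]; decide
theorem s3 : ∀ σ : Perm (Fin 3), sign σ = 1 → σ * σ = 1 → σ = 1 := by decide

namespace XF
variable (F : XF z Q H p φ β ν J ρ)
include F

theorem r1 : ρ 1 = 1 := (F.kr (.one_left z)).2 Q.one_mem
theorem rinv (h : Commute a z) : ρ a⁻¹ = (ρ a)⁻¹ :=
  eq_inv_of_mul_eq_one_left (by rw [← F.mul h.inv_left h, inv_mul_cancel, F.r1])
theorem rcj (h : Commute a z) (h' : Commute b z) : ρ (a⁻¹ * b * a) = (ρ a)⁻¹ * ρ b * ρ a := by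
  rw [F.mul (h.inv_left.mul_left h') h, F.mul h.inv_left h', F.rinv h]
theorem nu_eq (h : Commute a z) (h' : Commute b z) (e : ρ a = ρ b) (v : V) : ν a v = ν b v := by
  have := F.nu_Q ((F.kr (h'.inv_left.mul_left h)).1 (by rw [F.mul h'.inv_left h, F.rinv h', e, inv_mul_cancel])) v
  rw [← F.nu_inv' h' (ν a v), ← F.nu_mul h'.inv_left h, this]
theorem inH (h : Commute a z) (e : ρ a = (1, s)) : a ∈ H := (F.memH h).2 (by simp [e])
theorem fst1 (h : a ∈ H) (e : a * a ∈ Q) : ρ a = (1, (ρ a).2) ∧ (ρ a).2 * (ρ a).2 = 1 := by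
  have := (F.kr ((F.Hz h).mul_left (F.Hz h))).2 e
  rw [F.mul (F.Hz h) (F.Hz h)] at this
  exact ⟨Prod.ext (s3 _ ((F.memH (F.Hz h)).1 h) (congrArg Prod.fst this)) rfl, congrArg Prod.snd this⟩
theorem comm_of (h : Commute a z) (h' : Commute b z) (e : a * b * a⁻¹ * b⁻¹ ∈ Q) : ρ a * ρ b = ρ b * ρ a := by
  have := (F.kr (((h.mul_left h').mul_left h.inv_left).mul_left h'.inv_left)).2 e
  rw [F.mul ((h.mul_left h').mul_left h.inv_left) h'.inv_left, F.mul (h.mul_left h') h.inv_left, F.mul h h', F.rinv h,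
    F.rinv h', mul_inv_eq_one, mul_inv_eq_iff_eq_mul] at this
  exact this

/-- `v` is fixed by the four-group. -/
theorem fixV (he : Commute e z) (re : ρ e = (1, e0)) (hx : Commute x z) (rx : ρ x = (1, i)) (h1 : ν e v = v) (h2 : ν x v = v)
    (hg : Commute g z) (rg : ρ g = (1, s)) (h : V4 i s) : ν g v = v := by
  rcases h with rfl | rfl | rfl | rfl
  · exact F.nu_Q ((F.kr hg).1 rg) v
  · rw [F.nu_eq hg he (rg.trans re.symm), h1]
  · rw [F.nu_eq hg hx (rg.trans rx.symm), h2]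
  · rw [F.nu_eq hg (he.mul_left hx) (by rw [F.mul he hx, re, rx, rg]; rfl), F.nu_mul he hx, h2, h1]

theorem fix_cj (hk : Commute k z) (hg : Commute g z) (h : ν (k⁻¹ * g * k) v = v) : ν g (ν k v) = ν k v := by
  rw [← F.nu_inv' hk (ν g _), ← F.nu_mul hk.inv_left hg, ← F.nu_mul (hk.inv_left.mul_left hg) hk, h]

theorem rcj1 (hk : k ∈ H) (hg : Commute g z) (rg : ρ g = (1, s)) : ρ (k⁻¹ * g * k) = (1, (ρ k).2⁻¹ * s * (ρ k).2) := by
  rw [F.rcj (F.Hz hk) hg, rg]; ext : 1 <;> simp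

variable (fa : ∀ v, J (J v) = J v + v)
include fa

theorem invLn (hk : k ∈ H) (k2 : k * k ∈ Q) (h : ν k v ∈ Ln F.h2 J v) : ν k v = v := by
  have s := F.nu_sq (F.Hz hk) k2 v
  rcases h with e | e | e | e
  · rw [e, map_zero] at s; rw [e, s]
  · exact e
  · rw [e, F.lin hk, e, fa, add_eq_right] at s; rw [F.J0 s, map_zero]
  · rw [e, map_add, F.lin hk, e, map_add, fa] at s
    rw [Jne fa F.toAF (v := v) (by linear_combination (norm := abel1) s - F.h2 (J v) - F.h2 v), map_zero]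

variable (F' : AF t P K p' φ β ν' J) (S : QS F.toAF t P) (tQ : t ∈ Q) (he : e ∈ P ⊓ C1[z] ⊓ H) (re : ρ e = (1, e0))
include S he re

theorem fixI (f : FG i c) (hx : Commute x z) (rx : ρ x = (1, i)) : ν x (p t) = p t := by
  have xH := F.inH hx rx
  refine F.invLn fa xH ((F.kr (hx.mul_left hx)).1 (by rw [F.mul hx hx, rx, Prod.mk_mul_mk, f.ii]; rfl))
    (S.fx _ fun b hb => F.fix_cj hx (F.Hz hb.2) ?_)
  obtain ⟨r1, r2⟩ := F.fst1 hb.2 (S.sq b hb.1.1)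
  have r3 := F.rcj1 xH (F.Hz hb.2) r1
  have cz := (hx.inv_left.mul_left (F.Hz hb.2)).mul_left hx
  rw [rx] at r3
  rcases f.nrm _ r2 (by simpa [re] using congrArg Prod.snd (F.comm_of (F.Hz hb.2) (F.Hz he.2) (S.cm b hb.1.1 e he.1.1)))
    with k | k <;> rw [k] at r3
  · rw [F.nu_eq cz (F.Hz hb.2) (r3.trans r1.symm), S.bv b hb.1]
  · rw [F.nu_eq cz (F.Hz (mul_mem hb he).2) (by rw [F.mul (F.Hz hb.2) (F.Hz he.2), r3, re, r1]; rfl), S.bv _ (mul_mem hb he).1]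

theorem dch (f : FG i c) (hx : Commute x z) (rx : ρ x = (1, i)) :
    (∀ w, ν e w = w → ν x w = w → w ∈ Ln F.h2 J (p t)) ∨ ∀ w, ν e w = w → ν x w = w := by
  refine or_iff_not_imp_left.2 fun h w hw => ?_
  push Not at h
  obtain ⟨w', h1, h2, h3⟩ := h
  have iW : ∀ v ∈ Cf ν e ⊓ Cf ν x, J v ∈ Cf ν e ⊓ Cf ν x := fun v h => ⟨F.CfJ he.2 v h.1, F.CfJ (F.inH hx rx) v h.2⟩
  have m : p t ∈ Cf ν e ⊓ Cf ν x := ⟨(mem_Cf F.toFm).2 (S.bv e he.1), (mem_Cf F.toFm).2 (F.fixI fa S he re f hx rx)⟩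
  have k1 := J4 F.h2 (fa w') F.J3 (Ln_le m (iW _ m) F.h2) (Ln_J F.h2 (fa _)) iW ⟨(mem_Cf F.toFm).2 h1, (mem_Cf F.toFm).2 h2⟩ h3
  have k2 := Ln4 fa F.toAF S.v0
  have k3 := (S.rk e he (mt (F.kr (F.Hz he.2)).2 (by rw [re]; decide))).1
  exact (mem_Cf F.toFm).1 ((AddSubgroup.eq_of_le_of_card_ge (H := Cf ν e ⊓ Cf ν x) inf_le_left (by omega)).ge
    ((mem_Cf F.toFm).2 hw)).2

include F' tQ

theorem inB (f : FG i c) (hk : k ∈ H) (rk : (ρ k).2 = c) (h : ν k (p t) = p t) : ∃ b ∈ P ⊓ C1[z] ⊓ H, ρ b = (1, i) := by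
  obtain ⟨q, hq, cq⟩ := F.lift (F.Hz hk) tQ S.v0 h
  have mH := mul_mem (F.QH hq) hk
  have r := F.rcj1 (inv_mem mH) (F.Hz he.2) re
  have m : q * k * e * (q * k)⁻¹ ∈ P ⊓ C1[z] ⊓ H :=
    have := mul_mem (mul_mem mH he.2) (inv_mem mH)
    ⟨⟨F'.cjm cq he.1.1, mem_cent1.2 (F.Hz this)⟩, this⟩
  rw [F.rinv (F.Hz mH), F.mul (F.Qz hq) (F.Hz hk), (F.kr (F.Qz hq)).2 hq, one_mul, Prod.snd_inv, inv_inv, inv_inv, rk] at r
  rcases f.cj with k | k <;> rw [k] at r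
  · exact ⟨_, m, r⟩
  · exact ⟨_, mul_mem he m, by rw [F.mul (F.Hz he.2) (F.Hz m.2), re, r, Prod.mk_mul_mk, ← mul_assoc]; congr 1; simp [e0]; decide⟩

theorem inB' (f : FG i c) (hx : Commute x z) (rx : ρ x = (1, i)) (h : ∀ w, ν e w = w → ν x w = w → w ∈ Ln F.h2 J (p t)) :
    ∃ b ∈ P ⊓ C1[z] ⊓ H, ρ b = (1, i) := by
  obtain ⟨j, j', a1, a2, a3, a4, rfl, b1, b2, b3, b4⟩ := f.dec
  have g : ∀ j, sign j = 1 → j * j = 1 → V4 i (j⁻¹ * e0 * j) → V4 i (j⁻¹ * i * j) →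
      ∃ y, Commute y z ∧ ρ y = (1, j) ∧ ν y (p t) = p t := fun j a1 a2 b1 b2 => by
    obtain ⟨y, hy, ry⟩ := F.sur j a1
    have yH := F.inH hy ry
    have fx := fun {g s} => F.fixV (g := g) (s := s) (F.Hz he.2) re hx rx (S.bv e he.1) (F.fixI fa S he re f hx rx)
    exact ⟨y, hy, ry, F.invLn fa yH ((F.kr (hy.mul_left hy)).1 (by rw [F.mul hy hy, ry, Prod.mk_mul_mk, a2]; rfl))
      (h _ (F.fix_cj hy (F.Hz he.2) (fx ((hy.inv_left.mul_left (F.Hz he.2)).mul_left hy) (F.rcj1 yH (F.Hz he.2) re) (ry ▸ b1)))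
        (F.fix_cj hy hx (fx ((hy.inv_left.mul_left hx).mul_left hy) (F.rcj1 yH hx rx) (ry ▸ b2))))⟩
  obtain ⟨y, c1, c2, c3⟩ := g j a1 a3 b1 b2
  obtain ⟨y', d1, d2, d3⟩ := g j' a2 a4 b3 b4
  exact F.inB fa F' S tQ he re f (mul_mem (F.inH c1 c2) (F.inH d1 d2)) (by rw [F.mul c1 d1, c2, d2]; rfl)
    (by rw [F.nu_mul c1 d1, d3, c3])

omit F' tQ he re fa in
theorem twoB (n : i * j ≠ j * i) (ha : a ∈ P ⊓ C1[z] ⊓ H) (hb : b ∈ P ⊓ C1[z] ⊓ H) (r1 : ρ a = (1, i)) (r2 : ρ b = (1, j)) :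
    False := n (by simpa [r1, r2] using congrArg Prod.snd (F.comm_of (F.Hz ha.2) (F.Hz hb.2) (S.cm a ha.1.1 b hb.1.1)))

omit F' tQ fa in
theorem inV (f : FG i c) (ha : a ∈ P ⊓ C1[z] ⊓ H) (r1 : ρ a = (1, i)) (hb : b ∈ P ⊓ C1[z] ⊓ H) : V4 i (ρ b).2 := by
  by_contra n
  let φ2 : (P ⊓ C1[z] ⊓ H : Subgroup G) →* Perm (Fin 6) := MonoidHom.mk' (fun x => (ρ x).2) fun x y => by
    rw [coe_mul, F.mul (F.Hz x.2.2) (F.Hz y.2.2)]; rfl
  let E : Subgroup (Perm (Fin 6)) → Subgroup G := fun W => (W.comap φ2).map (Subgroup.subtype _)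
  have mE : ∀ W x (h : x ∈ P ⊓ C1[z] ⊓ H), x ∈ E W ↔ (ρ x).2 ∈ W := fun W x h =>
    mem_map_iff_mem (f := Subgroup.subtype _) (subtype_injective _) (x := ⟨x, h⟩)
  have ee : e0 * e0 = 1 := by decide
  let W : Subgroup (Perm (Fin 6)) := {
    carrier := {s | V4 i s}
    one_mem' := .inl rfl
    mul_mem' := by
      have h1 : e0 * (e0 * i) = i := by rw [← mul_assoc, ee, one_mul]
      have h2 : i * (e0 * i) = e0 := by rw [← mul_assoc, f.ei, mul_assoc, f.ii, mul_one]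
      rintro _ _ (rfl | rfl | rfl | rfl) (rfl | rfl | rfl | rfl) <;>
        simp [V4, ee, f.ii, f.ei, h1, h2, mul_assoc]
    inv_mem' := by
      rintro _ (rfl | rfl | rfl | rfl)
      exacts [.inl inv_one, .inr (.inl (inv_eq_of_sq ee)), .inr (.inr (.inl (inv_eq_of_sq f.ii))),
        .inr (.inr (.inr (by rw [mul_inv_rev, inv_eq_of_sq ee, inv_eq_of_sq f.ii, f.ei])))] }
  have k1 := dbl (A := Q ⊓ P) (B := E (zpowers e0)) (fun y hy => (mE _ y ⟨⟨hy.2, mem_cent1.2 (F.Qz hy.1)⟩, F.QH hy.1⟩).2 (by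
    rw [(F.kr (F.Qz hy.1)).2 hy.1]; exact one_mem _)) ((mE _ e he).2 (by rw [re]; exact mem_zpowers _))
    fun h => absurd ((F.kr (F.Hz he.2)).2 h.1) (by rw [re]; decide)
  have k2 := dbl (A := E (zpowers e0)) (B := E W) (map_mono (comap_mono (zpowers_le.2 (.inr (.inl rfl)))))
    ((mE _ a ha).2 (by rw [r1]; exact .inr (.inr (.inl rfl)))) fun h => by
      rw [mE _ a ha, r1] at h
      exact (mem_zpowers_invol ee h).elim f.n1.1 f.n1.2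
  have k3 := dbl (A := E W) (map_subtype_le _) hb fun h => n ((mE _ b hb).1 h)
  have := S.q3
  have := S.hi
  omega

theorem mixed (zP : z ∈ P) (f : FG i c) (f' : FG j c') (n : i * j ≠ j * i) (dis : ∀ s, V4 i s → V4 i (c'⁻¹ * s * c') → s = 1)
    (ha : a ∈ P ⊓ C1[z] ⊓ H) (r1 : ρ a = (1, i)) (hx : Commute x z) (rx : ρ x = (1, j)) (h : ∀ w, ν e w = w → ν x w = w) :
    False := by
  have ez := F.Hz he.2
  obtain ⟨c16, iso, m, mA, mC, mL⟩ := S.rk e he (mt (F.kr ez).2 (by rw [re]; decide))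
  have nf : ∀ k ∈ H, (ρ k).2 = c' → ν k (p t) ≠ p t := fun k hk r e' =>
    let ⟨b, hb, r2⟩ := F.inB fa F' S tQ he re f' hk r e'; F.twoB S n ha hb r1 r2
  obtain ⟨y, hy, ry⟩ := F.sur c' f'.sc
  obtain ⟨c, cz, -, rc, hc⟩ := F.rc
  obtain ⟨c1, c2, hc'⟩ := F.exc
  have cH : c ∈ H := by
    have := F.ker (cz.inv_left.mul_left (F.Hz c2)) fun v => by rw [F.nu_mul cz.inv_left (F.Hz c2), hc', ← hc, F.nu_inv cz]
    simpa using mul_mem c2 (inv_mem (F.QH this))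
  let Y : V → Prop := fun w => ∃ k ∈ H, (ρ k).2 = c' ∧ ν k (p t) = w
  have YJ : ∀ {w}, Y w → Y (J w) := fun ⟨k, a, b, d⟩ =>
    ⟨c * k, mul_mem cH a, by rw [F.mul cz (F.Hz a), Prod.snd_mul, rc, one_mul, b], by rw [F.nu_mul cz (F.Hz a), d, hc]⟩
  have YL : ∀ {w}, Y w → w ∉ Ln F.h2 J (p t) := fun {w} hw hl => by
    have g : ¬ Y (p t) := fun ⟨k, a, b, d⟩ => nf k a b d
    rcases hl with rfl | rfl | rfl | rfl
    · obtain ⟨k, a, -, d⟩ := hw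
      exact S.v0 (by rw [← F.nu_inv (F.Hz a) (p t), d, map_zero])
    exacts [g hw, g (F.J3 (p t) ▸ YJ (YJ hw)), g (F.J3 (p t) ▸ YJ (fa (p t) ▸ hw))]
  have iC := F.CfJ he.2
  have vC : p t ∈ Cf ν e := (mem_Cf F.toFm).2 (S.bv e he.1)
  have span : ∀ m ∈ Cf ν e, m ∉ Ln F.h2 J (p t) → Ln F.h2 J (p t) ⊔ Ln F.h2 J m = Cf ν e := fun m a b => by
    have := J4 F.h2 (fa m) F.J3 (S' := Ln F.h2 J (p t) ⊔ Ln F.h2 J m) le_sup_left (Ln_J F.h2 (fa _)) (fun w hw => by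
      obtain ⟨x, h1, y, h2, rfl⟩ := AddSubgroup.mem_sup.1 hw
      rw [map_add]
      exact AddSubgroup.add_mem_sup (Ln_J F.h2 (fa _) _ h1) (Ln_J F.h2 (fa _) _ h2))
      (AddSubgroup.mem_sup_right (.inr (.inl rfl))) b
    have := Ln4 fa F.toAF S.v0
    exact AddSubgroup.eq_of_le_of_card_ge (sup_le (Ln_le vC (iC _ vC) _) (Ln_le a (iC _ a) _)) (by omega)
  have vA : p t ∈ pA F.toFm P := ⟨t, tQ, F'.es.zQ, rfl⟩
  have LA : Ln F.h2 J (p t) ≤ pA F.toFm P := Ln_le vA S.q1 _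
  obtain ⟨w, ⟨k, kH, rk, rfl⟩, wA, wC⟩ : ∃ w, Y w ∧ w ∈ pA F.toFm P ∧ w ∈ Cf ν e := by
    have y1 : Y _ := ⟨y, F.inH hy ry, by rw [ry], rfl⟩
    have y2 : ν y (p t) ∈ Cf ν e := (mem_Cf F.toFm).2 (F.fix_cj hy ez (F.fixV ez re hx rx (S.bv e he.1) (h _ (S.bv e he.1))
      ((hy.inv_left.mul_left ez).mul_left hy) (F.rcj1 (F.inH hy ry) ez re) (ry ▸ f'.cj'.1)))
    obtain ⟨l, h1, l', h2, e'⟩ := AddSubgroup.mem_sup.1 ((span m mC mL).ge y2)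
    rcases h2 with rfl | rfl | rfl | rfl
    · exact absurd (by rwa [← e', add_zero]) (YL y1)
    · exact ⟨_, y1, e' ▸ add_mem (LA h1) mA, y2⟩
    · exact ⟨_, YJ (YJ y1), by
        rw [← e', map_add, map_add, F.J3]; exact add_mem (LA (Ln_J F.h2 (fa _) _ (Ln_J F.h2 (fa _) _ h1))) mA, iC _ (iC _ y2)⟩
    · exact ⟨_, YJ y1, by rw [← e', ← fa, map_add, F.J3]; exact add_mem (LA (Ln_J F.h2 (fa _) _ h1)) mA, iC _ y2⟩
  have kz := F.Hz kH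
  have wL := YL ⟨k, kH, rk, rfl⟩
  have tQ' := F.cjm kz tQ
  have pt := F.act kz tQ
  have tP : k * t * k⁻¹ ∈ P := ((pre_pA F.toFm zP).le ⟨tQ', pt ▸ wA⟩).2
  have zP' : z ∈ cj k P := by simpa only [cj_eq_iff_comm.2 kz] using conj_mem_cj k zP
  have S' := qs fa F.toAF (F'.conj k) tQ' zP' fun e' => S.v0 (by
    rw [← F.nu_inv kz (p t), ← pt, e', F.pz, map_zero])
  have S2 := qs fa F' (F'.conj k) tP (F'.le.sym (by rw [F'.cardQ]; decide) tP) fun e' => wL (by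
    rw [← pt, e']; exact .inr (.inl rfl))
  have Cz : P ⊓ cj k P ≤ C1[z] := fun x hx => mem_cent1.2 (S2.ab x hx z ⟨zP, zP'⟩)
  have a1 := F.halfH Cz
  have a2 := card_le_of_le (show P ⊓ cj k P ⊓ H ≤ F.pre (pA F.toFm P ⊓ pA F.toFm (cj k P)) from fun b hb => by
    have m1 : b ∈ P ⊓ C1[z] ⊓ H := ⟨⟨hb.1.1, Cz hb.1⟩, hb.2⟩
    have m3 := mul_mem (mul_mem (inv_mem kH) hb.2) kH
    have m2 : k⁻¹ * b * k ∈ P ⊓ C1[z] ⊓ H := ⟨⟨mem_cj.1 hb.1.2, mem_cent1.2 (F.Hz m3)⟩, m3⟩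
    have r := (F.fst1 hb.2 (S.sq b hb.1.1)).1
    have := F.inV S he re f ha r1 m2
    rw [F.rcj1 kH (F.Hz hb.2) r, rk] at this
    have bQ := (F.kr (F.Hz hb.2)).1 (by rw [r, dis _ (F.inV S he re f ha r1 m1) this]; rfl)
    exact ⟨bQ, ⟨b, bQ, hb.1.1, rfl⟩, b, bQ, hb.1.2, rfl⟩)
  have Yb : ∀ {P t} (S : QS F.toAF t P) {u w}, u ∈ pA F.toFm P → w ∈ pA F.toFm P → β u w = 0 := by
    rintro _ _ S _ _ ⟨x, a, a', rfl⟩ ⟨y, b, b', rfl⟩; exact (F.comm a b).2 (S.ab x ⟨a, a'⟩ y ⟨b, b'⟩)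
  have wA' : ν k (p t) ∈ pA F.toFm (cj k P) := ⟨_, tQ', (F'.conj k).es.zQ, pt⟩
  have le : pA F.toFm P ⊓ pA F.toFm (cj k P) ≤ Cf ν e ⊓ pA F.toFm P := fun x hx => ⟨maxiso F.toFm iso (by
      have := J4 F.h2 (fa m) F.J3 (Ln_le vC (iC _ vC) F.h2) (Ln_J F.h2 (fa _)) iC mC mL
      have := Ln4 fa F.toAF S.v0
      omega) fun u hu => by
    obtain ⟨l, h1, l', h2, rfl⟩ := AddSubgroup.mem_sup.1 ((span _ wC wL).ge hu)
    rw [map_add, AddMonoidHom.add_apply, Yb S (LA h1) hx.1, Yb S' (Ln_le wA' (pt ▸ S'.q1) _ h2) hx.2, add_zero], hx.1⟩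
  obtain ⟨y', hy', e'⟩ := F.surj (J (ν k (p t)))
  have a3 := dbl (A := F.pre (Cf ν e ⊓ pA F.toFm P)) (B := F.pre (Cf ν e)) (fun x h => ⟨h.1, h.2.1⟩) ⟨hy', e' ▸ iC _ wC⟩
    fun h => wL (S.q2 _ wA (e' ▸ h.2.2))
  rw [card_pre] at a2
  rw [card_pre, card_pre] at a3
  have a4 := S2.q3
  have a5 := (AddSubgroup.eq_of_le_of_card_ge le (by omega)).ge
  have a6 := S'.q2 _ (a5 ⟨vC, vA⟩).2 (a5 ⟨iC _ vC, S.q1⟩).2
  rw [pt] at a6
  exact wL ((AddSubgroup.eq_of_le_of_card_ge (Ln_le a6 (Ln_J F.h2 (fa _) _ a6) F.h2)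
    ((Ln_card _ _).trans (Ln4 fa F.toAF S.v0))).ge (.inr (.inl rfl)))

theorem aQ0 (zP : z ∈ P) : False := by
  obtain ⟨x, hx, rx⟩ := F.sur ia fga.si
  obtain ⟨y, hy, ry⟩ := F.sur ib fgb.si
  rcases F.dch fa S he re fga hx rx with h | h <;> rcases F.dch fa S he re fgb hy ry with h' | h'
  · obtain ⟨a, ha, r1⟩ := F.inB' fa F' S tQ he re fga hx rx h
    obtain ⟨b, hb, r2⟩ := F.inB' fa F' S tQ he re fgb hy ry h'
    exact F.twoB S nab ha hb r1 r2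
  · obtain ⟨a, ha, r1⟩ := F.inB' fa F' S tQ he re fga hx rx h
    exact F.mixed fa F' S tQ he re zP fga fgb nab disa ha r1 hy ry h'
  · obtain ⟨a, ha, r1⟩ := F.inB' fa F' S tQ he re fgb hy ry h'
    exact F.mixed fa F' S tQ he re zP fgb fga nab.symm disb ha r1 hx rx h
  obtain ⟨c16, iso, m, mA, mC, mL⟩ := S.rk e he (mt (F.kr (F.Hz he.2)).2 (by rw [re]; decide))
  have vC : p t ∈ Cf ν e := (mem_Cf F.toFm).2 (S.bv e he.1)
  have := J4 F.h2 (fa m) F.J3 (Ln_le vC (F.CfJ he.2 _ vC) F.h2) (Ln_J F.h2 (fa _)) (F.CfJ he.2) mC mL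
  have := Ln4 fa F.toAF S.v0
  have := F.comm_of hx hy (F.co (· ∈ Cf ν e) (fun w hw => maxiso F.toFm iso (by omega) fun u hu => F.symm _ _ ▸ hw u hu) hx hy
    (fun u hu => h u ((mem_Cf F.toFm).1 hu)) fun u hu => h' u ((mem_Cf F.toFm).1 hu))
  exact nab (by simpa [rx, ry] using congrArg Prod.snd this)

omit S he re in
theorem aQ (zP : z ∈ P) (ne : t ≠ z) : False := by
  have S := qs fa F.toAF F' tQ zP ne
  obtain ⟨A, h1, h2, h3⟩ := chX (P ⊓ C1[z] ⊓ H) (fun b => Additive.ofMul (sign (ρ b).2)) fun a ha b hb => by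
    rw [F.mul (F.Hz ha.2) (F.Hz hb.2), Prod.snd_mul, map_mul, ofMul_mul]
  have a1 := F.ab32 inf_le_left ⟨F.es.zQ, zP⟩ S.ab
  have a2 := card_le_of_le (show A ⊓ Q ≤ Q ⊓ P from fun x h => ⟨h.2, (h1 h.1).1.1⟩)
  have a3 := S.lo
  simp only [Nat.card_eq_fintype_card (α := Additive ℤˣ), Fintype.card_additive, Fintype.card_units_int] at h2
  obtain ⟨b, hb, nb⟩ := exists_nmem (A := A) (T := Q) (by omega)
  have m := h1 hb
  obtain ⟨r1, r2⟩ := F.fst1 m.2 (S.sq b m.1.1)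
  obtain ⟨g, g1, g2⟩ := cj0 r2 (fun e => nb ((F.kr (F.Hz m.2)).1 (by rw [r1, e]; rfl))) (h3 b hb)
  obtain ⟨k, kz, rk⟩ := F.sur g g1
  have kH := F.inH kz rk
  have zP' : z ∈ cj k P := by simpa only [cj_eq_iff_comm.2 kz] using conj_mem_cj k zP
  have m' := mul_mem (mul_mem kH m.2) (inv_mem kH)
  have r := F.rcj1 (inv_mem kH) (F.Hz m.2) r1
  rw [F.rinv kz, rk, inv_inv, Prod.snd_inv, inv_inv, g2] at r
  exact F.aQ0 fa (F'.conj k) (qs fa F.toAF (F'.conj k) (F.cjm kz tQ) zP' fun e => ne (by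
    rwa [← cj_eq_iff_comm.2 kz, conj_inj] at e)) (F.cjm kz tQ)
    ⟨⟨conj_mem_cj k m.1.1, mem_cent1.2 (F.Hz m')⟩, m'⟩ r zP'

end XF

end Cfsg.Agent.A6N
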