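import Cfsg.Agent.A6N.T1

/-! The case `Pl` (helper2): the plane `[V, J]`, its complement `Fix J`; no other conjugate of `z` lies in `Q` (`bQ`). -/

set_option autoImplicit false
set_option linter.unusedSectionVars false

namespace Cfsg.Agent.A6N

open Cfsg.Agent.Fischer Cfsg.Agent.FI Subgroup Cfsg.Agent.BG Cfsg.Agent.LES Cfsg.Agent.PGrp Cfsg.Agent.U6R Equiv

variable {G : Type*} [Group G] [Finite G] {V : Type*} [AddCommGroup V] [Finite V] {z t x y a b g : G}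
  {Q H P K : Subgroup G} {p p' : G → V} {φ : V → ZMod 2} {β : V →+ V →+ ZMod 2} {ν ν' : G → V →+ V} {u v w v0 : V}
  {J : V →+ V}

namespace BQ

theorem dblA {A B : AddSubgroup V} (h : A ≤ B) (hx : v ∈ B) (n : v ∉ A) : 2 * Nat.card A ≤ Nat.card B := by
  rw [← (A.addSubgroupOf B).card_mul_index, Nat.card_congr (AddSubgroup.addSubgroupOfEquivOfLe h).toEquiv, mul_comm]
  exact Nat.mul_le_mul_left _ (AddSubgroup.one_lt_index_of_ne_top fun e =>
    n (AddSubgroup.mem_addSubgroupOf.1 (e.ge (AddSubgroup.mem_top ⟨v, hx⟩))))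

/-- There are no five independent pairwise orthogonal vectors. -/
theorem iso5 (F : Fm z Q H p φ β ν) (X : Set V) (h : ∀ a ∈ X, ∀ b ∈ X, β a b = 0) {a b c d e : V}
    (K1 K2 K3 K4 : AddSubgroup V) (ha : a ∈ X) (hb : b ∈ X) (hc : c ∈ X) (hd : d ∈ X) (he : e ∈ X) (a0 : a ≠ 0)
    (a1 : a ∈ K1) (a2 : a ∈ K2) (a3 : a ∈ K3) (a4 : a ∈ K4) (b1 : b ∉ K1) (b2 : b ∈ K2) (b3 : b ∈ K3) (b4 : b ∈ K4)
    (c2 : c ∉ K2) (c3 : c ∈ K3) (c4 : c ∈ K4) (d3 : d ∉ K3) (d4 : d ∈ K4) (e4 : e ∉ K4) : False := by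
  have m := fun {x} (hx : x ∈ X) => AddSubgroup.subset_closure hx
  have h0 := iso16 F (S := AddSubgroup.closure X) fun a ha b hb => (AddSubgroup.closure_le (β.flip b).ker).2
    (fun a ha => (AddSubgroup.closure_le (β a).ker).2 (h a ha) hb) ha
  generalize AddSubgroup.closure X = U at *
  have h4 := dblA (A := U ⊓ K4) inf_le_left (m he) fun k => e4 k.2
  have h3 := dblA (A := U ⊓ K4 ⊓ K3) inf_le_left ⟨m hd, d4⟩ fun k => d3 k.2
  have h2 := dblA (A := U ⊓ K4 ⊓ K3 ⊓ K2) inf_le_left ⟨⟨m hc, c4⟩, c3⟩ fun k => c2 k.2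
  have h1 := dblA (A := U ⊓ K4 ⊓ K3 ⊓ K2 ⊓ K1) inf_le_left ⟨⟨⟨m hb, b4⟩, b3⟩, b2⟩ fun k => b1 k.2
  have h0' := dblA (A := ⊥) (B := U ⊓ K4 ⊓ K3 ⊓ K2 ⊓ K1) bot_le ⟨⟨⟨⟨m ha, a4⟩, a3⟩, a2⟩, a1⟩ a0
  rw [AddSubgroup.card_bot] at h0'
  omega

/-- the plane `[V, J]`. -/
def V2 (J : V →+ V) (w : V) : Prop := J (J w) = J w + w

section
variable (F : AF z Q H p φ β ν J)
include F

theorem V2_N (v : V) : V2 J (J v + v) := by
  unfold V2
  simp only [map_add, F.J3]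
  linear_combination (norm := abel1) - F.h2 (J v)
theorem V2_add (h : V2 J u) (k : V2 J v) : V2 J (u + v) := by
  unfold V2 at *; rw [map_add, map_add, h, k]; abel
theorem V2_J (h : V2 J u) : V2 J (J u) := by
  unfold V2 at *; rw [F.J3, h, add_right_comm, F.h2, zero_add]
theorem dec (v : V) : ∃ w f, V2 J w ∧ J f = f ∧ v = w + f := by
  refine ⟨J (J v + v), J (J v) + J v + v, V2_J F (V2_N F v), by simp only [map_add, F.J3]; abel, ?_⟩
  rw [map_add, c2' F.h2]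
theorem perp (h : V2 J w) (k : J v = v) : β w v = 0 := by
  have e2 := F.Jbeta (J w) v
  rwa [k, h, map_add, AddMonoidHom.add_apply, add_eq_left] at e2
theorem V2_FJ (h : V2 J w) (k : J w = w) : w = 0 := by
  unfold V2 at h; rw [k, k, F.h2] at h; exact h
theorem nuV2 (hg : Commute g z) (h : V2 J w) : V2 J (ν g w) := by
  unfold V2 at *
  by_cases k : g ∈ H
  · rw [← F.lin k, ← F.lin k, h, map_add]
  · have e := F.sem hg k (J w)
    rw [h, map_add, F.sem hg k, F.J3] at e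
    linear_combination (norm := abel1) e - F.h2 (ν g w)
theorem nuFJ (hg : Commute g z) (h : J v = v) : J (ν g v) = ν g v := by
  by_cases k : g ∈ H
  · rw [← F.lin k, h]
  · have e := F.sem hg k v
    rw [h] at e
    nth_rw 1 [e]; rw [F.J3]

variable (L : Pl J v0)
include L

theorem b0 : β v0 (J v0) = 1 := z2_ne fun e => L.1 (F.nd _ fun v => by
  obtain ⟨w, f, hw, hf, rfl⟩ := dec F v
  rw [map_add, perp F L.2.1 hf, add_zero]
  rcases L.2.2 w hw with rfl | rfl | rfl | rfl <;> simp [e, F.alt])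

theorem bJ1 (h : V2 J w) (n : w ≠ 0) : β w (J w) = 1 := by
  have e := b0 F L
  rcases L.2.2 w h with rfl | rfl | rfl | rfl
  exacts [absurd rfl n, e, (F.Jbeta _ _).trans e, by rw [← L.2.1, F.Jbeta, F.Jbeta, e]]

theorem phi1 (h : V2 J w) (n : w ≠ 0) : φ w = 1 := (F.bJ h).symm.trans (bJ1 F L h n)

theorem sing (h : V2 J w) (k : φ w = 0) : w = 0 := by
  by_contra n; rw [phi1 F L h n] at k; cases k

theorem plane (h : V2 J w) (n : w ≠ 0) (k : V2 J u) : u = 0 ∨ u = w ∨ u = J w ∨ u = J w + w := by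
  have e : J (J v0) = J v0 + v0 := L.2.1
  have e1 : J (J v0 + v0) = v0 := by rw [← e, F.J3]
  have e2 : J v0 + v0 + J v0 = v0 := by rw [add_right_comm, F.h2, zero_add]
  have e3 : v0 + (J v0 + v0) = J v0 := by rw [add_left_comm, F.h2, add_zero]
  rcases L.2.2 w h with rfl | rfl | rfl | rfl
  · exact absurd rfl n
  · exact L.2.2 u k
  · rw [e, e2]; have := L.2.2 u k; tauto
  · rw [e1, e3]; have := L.2.2 u k; tauto

theorem pFJ (h : ∀ w, V2 J w → β w v = 0) : J v = v := by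
  obtain ⟨w, f, hw, hf, rfl⟩ := dec F v
  by_cases n : w = 0
  · rw [n, zero_add, hf]
  have := h _ (V2_J F hw)
  rw [map_add, perp F (V2_J F hw) hf, add_zero, F.symm, bJ1 F L hw n] at this
  cases this

end

section
variable (F : Fm z Q H p φ β ν) (F' : Fm t P K p' φ β ν') (ht : t ∈ Q) (hz : z ∈ P) (ne : t ≠ z)
include F F' ht hz ne

theorem ysq (hy : y ∈ Q) (hy' : y ∈ P) : φ (p y) = 0 :=
  (F.sq hy).2 ((F.es.sq y hy).elim id fun e => (F'.es.sq y hy').resolve_right fun f => ne (f.symm.trans e))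

theorem actB (hb : b ∈ P ⊓ C1[z]) (hv : β (p t) v = 0) : ∃ y ∈ Q, y ∈ P ∧ p y = ν b v + v := by
  obtain ⟨a, ha, rfl⟩ := F.surj v
  have c := mem_cent1.1 hb.2
  exact ⟨_, mul_mem (F.cjm c ha) (inv_mem ha), by
    simpa [mul_assoc] using mul_mem hb.1 (F'.cjm ((F.comm ht ha).1 hv).symm (inv_mem hb.1)), F.nu_comm c ha⟩

theorem yb (hx : x ∈ Q) (hx' : x ∈ P) (hy : y ∈ Q) (hy' : y ∈ P) : β (p x) (p y) = 0 :=
  beta_of F (ysq F F' ht hz ne hx hx') (ysq F F' ht hz ne hy hy')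
    (F.add hx hy ▸ ysq F F' ht hz ne (mul_mem hx hy) (mul_mem hx' hy'))

theorem yab : ∀ a ∈ Q ⊓ P, ∀ b ∈ Q ⊓ P, Commute a b :=
  fun _ ha _ hb => (F.comm ha.1 hb.1).1 (yb F F' ht hz ne ha.1 ha.2 hb.1 hb.2)

theorem pt0 : p t ≠ 0 := fun e => ((F.p0 ht).1 e).elim F'.es.z1 ne

end

variable (F : AF z Q H p φ β ν J) (F' : Fm t P K p' φ β ν') (L : Pl J v0) (ht : t ∈ Q) (hz : z ∈ P) (ne : t ≠ z)
include F F' L ht hz ne

theorem fixed (e : J (p t) = p t) : False := by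
  obtain ⟨c, hc, ec⟩ := F.exc
  obtain ⟨q, hq, cq⟩ := F.lift (F.Hz hc) ht (pt0 F.toFm F' ht hz ne) (by rw [ec, e])
  have cz := (F.Qz hq).mul_left (F.Hz hc)
  have fA : ∀ y ∈ Q, y ∈ P → J (p y) = p y := fun y hy hy' => eq_of_add F.h2 (sing F L (V2_N F _) (by
    rw [← ec, ← F.nu_Q hq (ν c _), ← F.nu_mul (F.Qz hq) (F.Hz hc), ← F.nu_comm cz hy]
    exact ysq F.toFm F' ht hz ne (mul_mem (F.cjm cz hy) (inv_mem hy)) (mul_mem (F'.cjm cq hy') (inv_mem hy'))))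
  obtain ⟨x, hx, ex⟩ := F.surj v0
  have h1 : #(Q ⊓ P : Subgroup G) < 32 := by
    by_contra k
    have := F.ab32' (A := Q ⊓ P) inf_le_left ⟨F.es.zQ, hz⟩ (yab F.toFm F' ht hz ne) (not_lt.1 k) hx fun a ha =>
      (F.comm ha.1 hx).1 (by rw [F.symm, ex, perp F L.2.1 (fA a ha.1 ha.2)])
    exact L.1 (V2_FJ F L.2.1 (ex ▸ fA x hx this.2))
  have f2 : ∀ b ∈ P ⊓ C1[z], ∀ w, V2 J w → ν b w = w := fun b hb w hw => by
    obtain ⟨y, hy, hy', k⟩ := actB F.toFm F' ht hz ne hb (v := w) (by rw [F.symm, perp F hw e])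
    exact eq_of_add F.h2 (sing F L (V2_add F (nuV2 F (mem_cent1.1 hb.2) hw) hw) (k ▸ ysq F.toFm F' ht hz ne hy hy'))
  have h2 := F.g8 (P ⊓ C1[z]) (fun b hb => by_contra fun n => L.1 (F.semfix (mem_cent1.1 hb.2) n L.2.1
    (f2 b hb _ L.2.1) (f2 b hb _ (V2_J F L.2.1)))) (fun x hx => ex4 F' hx.1) fun a ha b hb => by
      rcases z2_cases (β (p' a) (p' b)) with k | k
      · rw [((F'.comm ha.1 hb.1).1 k).eq]; simp
      · rw [comm_z F' ha.1 hb.1 k]; exact ht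
  have h3 := F'.cardB hz
  have h4 := card_le_of_le (show P ⊓ C1[z] ⊓ Q ≤ Q ⊓ P from fun _ h => ⟨h.2, h.1.1⟩)
  omega

theorem moved (e : J (p t) ≠ p t) : False := by
  obtain ⟨v2, v6, h2, h6, d⟩ := dec F (p t)
  have n2 : v2 ≠ 0 := fun k => e (by rw [d, k, zero_add, h6])
  have c := fun b (hb : b ∈ P ⊓ C1[z] ⊓ H) => F.Hz hb.2
  have f2 : ∀ b ∈ P ⊓ C1[z] ⊓ H, ∀ w, V2 J w → ν b w = w := fun b hb w hw => by
    have k := F.nu_fix (c b hb) ht (F'.Qz hb.1.1)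
    rw [d, map_add] at k
    have k2 : ν b v2 = v2 := eq_of_add F.h2 (V2_FJ F (V2_add F (nuV2 F (c b hb) h2) h2) (by
      have : ν b v2 + v2 = ν b v6 + v6 := by linear_combination (norm := abel1) k + F.h2 v2 - F.h2 (ν b v6)
      rw [this, map_add, nuFJ F (c b hb) h6, h6]))
    rcases plane F L h2 n2 hw with rfl | rfl | rfl | rfl <;> simp [F.lin hb.2, k2]
  have j1 : β (p t) (J v2) = 1 := by
    rw [d, map_add, AddMonoidHom.add_apply, bJ1 F L h2 n2, F.symm, perp F (V2_J F h2) h6, add_zero]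
  let A : AddSubgroup V := ⟨⟨⟨{v | ∃ y ∈ Q, y ∈ P ∧ p y = v}, by
    rintro _ _ ⟨x, a, b, rfl⟩ ⟨y, c, d, rfl⟩; exact ⟨_, mul_mem a c, mul_mem b d, F.add a c⟩⟩,
    1, one_mem _, one_mem _, F.p1⟩, fun {x} h => by rwa [neg_eq_of_add_eq_zero_left (F.h2 x)]⟩
  have NA : ∀ b ∈ P ⊓ C1[z] ⊓ H, ∀ u, ν b u + u ∈ A := fun b hb u => by
    rcases z2_cases (β (p t) u) with k | k
    · exact actB F.toFm F' ht hz ne hb.1 k
    have := actB F.toFm F' ht hz ne hb.1 (v := u + J v2) (by rw [map_add, k, j1]; rfl)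
    rwa [map_add, f2 b hb _ (V2_J F h2), add_add_add_comm, F.h2, add_zero] at this
  have NJ : ∀ b ∈ P ⊓ C1[z] ⊓ H, ∀ u, J (ν b u + u) = ν b u + u := fun b hb u =>
    pFJ F L fun w hw => F.perp_fix (c b hb) (f2 b hb w hw) u
  have A0 : ∀ v ∈ A, φ v = 0 := by rintro _ ⟨y, a, b, rfl⟩; exact ysq F.toFm F' ht hz ne a b
  have Ab : ∀ u ∈ A, ∀ v ∈ A, β u v = 0 := fun u a v b => beta_of F.toFm (A0 u a) (A0 v b) (A0 _ (add_mem a b))
  have alt : ∀ b ∈ P ⊓ C1[z] ⊓ H, ∀ u, β u (ν b u + u) = 0 := fun b hb u => by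
    have := A0 _ (NA b hb u)
    rw [F.pol, F.nu_phi (c b hb), z2_add, zero_add] at this
    rw [map_add, F.alt, add_zero, F.symm, this]
  have sy : ∀ b ∈ P ⊓ C1[z] ⊓ H, ∀ u v, β u (ν b v + v) = β v (ν b u + u) := fun b hb u v => by
    have := alt b hb (u + v)
    rw [map_add (ν b), add_add_add_comm, map_add β, AddMonoidHom.add_apply, map_add (β u), map_add (β v), alt b hb,
      alt b hb, zero_add, add_zero] at this
    exact eq_of_add z2_add this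
  have tA : p t ∈ A := ⟨t, ht, F'.es.zQ, rfl⟩
  have p6 : φ v6 = 1 := by
    have := A0 _ tA
    rw [d, F.pol, phi1 F L h2 n2, perp F h2 h6, add_zero] at this
    exact (eq_of_add z2_add this).symm
  have h0 := F.halfH (inf_le_right : P ⊓ C1[z] ≤ _)
  have h1 := F'.cardB hz
  have h3 := F.ab32 (A := Q ⊓ P) inf_le_left ⟨F.es.zQ, hz⟩ (yab F.toFm F' ht hz ne)
  have h4 := card_le_of_le (show P ⊓ C1[z] ⊓ H ⊓ Q ≤ Q ⊓ P from fun _ h => ⟨h.2, h.1.1.1⟩)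
  obtain ⟨b, hb, n⟩ := exists_nmem (A := P ⊓ C1[z] ⊓ H) (T := Q) (by omega)
  obtain ⟨x, hx⟩ := not_forall.1 (mt (F.ker (c b hb)) n)
  obtain ⟨y, hy⟩ := not_forall.1 (mt (F.nd (ν b x + x)) (mt (eq_of_add F.h2) hx))
  rw [F.symm] at hy
  have S0 : ∀ s ∈ A, J s = s → β x s = 0 → β y s = 0 → s = 0 := fun s a j k1 k2 => by_contra fun n => by
    have o : ∀ s ∈ A, J s = s → β v2 s = 0 ∧ β v6 s = 0 := fun s a j => ⟨perp F h2 j, by
      have := Ab _ tA s a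
      rwa [d, map_add, AddMonoidHom.add_apply, perp F h2 j, zero_add] at this⟩
    refine iso5 F.toFm {s | s ∈ A ∧ J s = s ∨ s = v6 ∨ s = v2} ?_ (β y).ker (β x).ker A (J.eqLocus (.id V))
      (.inl ⟨a, j⟩) (.inl ⟨NA b hb x, NJ b hb x⟩) (.inl ⟨NA b hb y, NJ b hb y⟩) (.inr (.inl rfl)) (.inr (.inr rfl))
      n k2 k1 a j hy (alt b hb x) (NA b hb x) (NJ b hb x) (fun k => hy (sy b hb x y ▸ k)) (NA b hb y) (NJ b hb y)
      (fun k => by rw [A0 _ k] at p6; cases p6) h6 fun k => n2 (V2_FJ F h2 k)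
    rintro u (hu | rfl | rfl) v (hv | rfl | rfl)
    exacts [Ab _ hu.1 _ hv.1, F.symm _ _ ▸ (o u hu.1 hu.2).2, F.symm _ _ ▸ (o u hu.1 hu.2).1, (o v hv.1 hv.2).2, F.alt _,
      F.symm _ _ ▸ perp F h2 h6, (o v hv.1 hv.2).1, perp F h2 h6, F.alt _]
  obtain ⟨T, t1, t2, t3⟩ := chX (P ⊓ C1[z] ⊓ H) (fun b => β y (ν b x + x)) fun a ha b hb => by
    rw [F.N_mul (c a ha) (c b hb) (eq_of_add F.h2 (F.nd _ fun v => by
      rw [F.symm, sy a ha, Ab _ (NA b hb x) _ (NA a ha v)])), map_add]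
  have t4 : T ≤ Q ⊓ P := fun a ha => ⟨F.ker (c a (t1 ha)) fun u => by
    have m := t1 ha
    have e1 := S0 _ (NA a m x) (NJ a m x) (alt a m x) (t3 a ha)
    have e2 := S0 _ (NA a m y) (NJ a m y) (by rw [sy a m, t3 a ha]) (alt a m y)
    exact eq_of_add F.h2 (S0 _ (NA a m u) (NJ a m u) (by rw [sy a m, e1, map_zero]) (by rw [sy a m, e2, map_zero])),
    (t1 ha).1.1⟩
  have := card_le_of_le t4
  rw [Nat.card_zmod] at t2
  omega

end BQ

theorem bQ (F : AF z Q H p φ β ν J) (F' : AF t P K p' φ β ν' J) (L : Pl J v0) (ht : t ∈ Q) (hz : z ∈ P) (ne : t ≠ z) :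
    False :=
  (em _).elim (BQ.fixed F F'.toFm L ht hz ne) (BQ.moved F F'.toFm L ht hz ne)

end Cfsg.Agent.A6N
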