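import Cfsg.Agent.A6N.T1

/-! The case `[V, J]` a plane: no pair `PD` exists (`bPD`). -/

set_option autoImplicit false
set_option linter.unusedSectionVars false

namespace Cfsg.Agent.A6N

open Cfsg.Agent.Fischer Cfsg.Agent.FI Subgroup Cfsg.Agent.BG Cfsg.Agent.LES Cfsg.Agent.PGrp Cfsg.Agent.U6R

variable {G : Type*} [Group G] [Finite G] {V : Type*} [AddCommGroup V] [Finite V] {z t x y a b g r d : G}
  {Q H P K A T : Subgroup G} {p p' : G → V} {φ : V → ZMod 2} {β : V →+ V →+ ZMod 2} {ν ν' : G → V →+ V}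
  {u v w n v0 : V} {J : V →+ V} {D : Set G}

/-- The projection on `[V, J]`. -/
def pj (J : V →+ V) : V →+ V := J + J.comp J

theorem pj_apply (v : V) : pj J v = J v + J (J v) := rfl

theorem Pl.of_mem (h2 : ∀ v : V, v + v = 0) (hp : Pl J v) (h : J (J w) = J w + w) (n : w ≠ 0) : Pl J w := by
  refine ⟨n, h, fun u hu => ?_⟩
  have e := hp.2.1
  have e1 : J (J v + v) = v := by rw [map_add, e, add_right_comm, h2, zero_add]
  have e2 : J v + v + J v = v := by rw [add_right_comm, h2, zero_add]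
  have e3 : v + (J v + v) = J v := by rw [add_comm (J v), c2' h2]
  rcases hp.2.2 w h with rfl | rfl | rfl | rfl
  · exact absurd rfl n
  · exact hp.2.2 u hu
  · rw [e, e2]; have := hp.2.2 u hu; tauto
  · rw [e1, e3]; have := hp.2.2 u hu; tauto

namespace AF
variable (F : AF z Q H p φ β ν J)
include F

theorem pj_in (v : V) : J (J (pj J v)) = J (pj J v) + pj J v := by
  simp only [pj_apply, map_add, F.J3]
  linear_combination (norm := abel1) -F.h2 (J (J v))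

theorem pj_of (h : J (J w) = J w + w) : pj J w = w := by rw [pj_apply, h, c2' F.h2]

theorem pj_nu (hg : Commute g z) (v : V) : pj J (ν g v) = ν g (pj J v) := by
  by_cases h : g ∈ H
  · simp only [pj_apply, map_add, F.lin h]
  · simp only [pj_apply, map_add, F.sem hg h, F.J3, add_comm]

theorem pj_N (hg : Commute g z) (v : V) : pj J (ν g v + v) = ν g (pj J v) + pj J v := by rw [map_add, F.pj_nu hg]

theorem in_nu (hg : Commute g z) (h : J (J w) = J w + w) : J (J (ν g w)) = J (ν g w) + ν g w := by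
  have := F.pj_in (ν g w)
  rwa [F.pj_nu hg, F.pj_of h] at this

theorem in_J (h : J (J w) = J w + w) : J (J (J w)) = J (J w) + J w := by rw [← map_add, h]

theorem b_pj (h : J (J w) = J w + w) (s : V) : β w (pj J s) = β w s := by
  have e1 : β w (J s) = β (J (J w)) s := by rw [← F.Jbeta (J (J w)), F.J3]
  have e2 : β w (J (J s)) = β (J w) s := by rw [← F.Jbeta (J w), ← F.Jbeta (J (J w)), F.J3]
  rw [pj_apply, map_add, e1, e2, h, map_add, AddMonoidHom.add_apply, add_right_comm, z2_add, zero_add]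

theorem phi1 (hp : Pl J v) : φ v = 1 := z2_ne fun e => hp.1 (F.nd _ fun s => by
  rw [← F.b_pj hp.2.1]
  rcases hp.2.2 _ (F.pj_in s) with k | k | k | k <;> simp [k, F.alt, F.bJ hp.2.1, e])

theorem fix2 (hp : Pl J v) (hb : b ∈ H) (h4 : b * b * (b * b) = 1) (h : J (J w) = J w + w) : ν b w = w := by
  have c := F.Hz hb
  have e : ν b (ν b (ν b (ν b w))) = w := by
    rw [← F.nu_mul c c, ← F.nu_mul c c, ← F.nu_mul (c.mul_left c) (c.mul_left c), h4, F.nu_Q Q.one_mem]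
  by_cases n : w = 0
  · simp [n]
  rcases (hp.of_mem F.h2 h n).2.2 _ (F.in_nu c h) with k | k | k | k
  · simp [k] at e; exact absurd e.symm n
  · exact k
  · simp only [k, F.lin hb, F.J3] at e; rw [k, e]
  · rw [← h] at k; simp only [k, F.lin hb, F.J3] at e; rw [k, e]

end AF

theorem two_el (h : #A ≤ 2) : ∃ y ∈ A, ∀ x ∈ A, x = 1 ∨ x = y := by
  by_cases e : A = ⊥
  · exact ⟨1, one_mem _, fun x hx => .inl (by rwa [e] at hx)⟩
  obtain ⟨⟨y, hy⟩, n⟩ := ne_bot_iff_exists_ne_one.1 e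
  refine ⟨y, hy, fun x hx => by_contra fun k => ?_⟩
  push Not at k
  have := Nat.card_le_card_of_injective (![1, ⟨y, hy⟩, ⟨x, hx⟩] : Fin 3 → A) (by
    have n' : y ≠ 1 := fun e => n (Subtype.ext e)
    intro i j; fin_cases i <;> fin_cases j <;> simp [Subtype.ext_iff, k.1, k.2, n', k.1.symm, k.2.symm, n'.symm])
  simp at this; omega

variable (hp : Pl J v0) (Z : PD D z t Q P) (F : AF z Q H p φ β ν J) (F' : AF t P K p' φ β ν' J)
include hp Z F F'

theorem linA (ht : t ∈ H) : ∃ r ∈ Q, ∃ q ∈ Q, ν t (p r) = p r ∧ ¬ Commute t r ∧ Commute q t ∧ Pl J (p q) ∧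
    (p r = J (p q) ∨ p r = J (p q) + p q) ∧ q * q = z := by
  have f := fun w => F.fix2 (w := w) hp ht (by rw [Z.tt, one_mul])
  obtain ⟨r, hr, h1, h2⟩ : ∃ r ∈ Q, Pl J (p r) ∧ ¬ Commute t r := by
    obtain ⟨x, hx, e⟩ := F.surj v0
    obtain ⟨y, hy, e'⟩ := F.surj (J v0)
    have hp' := hp.of_mem F.h2 (F.in_J hp.2.1) (mt F.J0 hp.1)
    by_cases c : Commute t x
    · refine ⟨y, hy, e' ▸ hp', fun c' => ?_⟩
      have := q8R Z F.toFm F' hx hy c.symm c'.symm (e ▸ F.phi1 hp) (e' ▸ F.phi1 hp')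
      rw [e, e', F.bJ hp.2.1, F.phi1 hp] at this
      cases this
    · exact ⟨x, hx, e ▸ hp, c⟩
  obtain ⟨q, hq, c, k⟩ := F.kerN Z.c Z.tt hr (f _ h1.2.1) h2 (f _ (F.in_J h1.2.1))
  have e := h1.2.1
  have k1 : Pl J (p q) ∧ (p r = J (p q) ∨ p r = J (p q) + p q) := by
    rcases k with k | k
    · refine ⟨k ▸ hp.of_mem F.h2 (F.in_J e) (mt F.J0 h1.1), .inr ?_⟩
      rw [← k, e, add_right_comm, F.h2, zero_add]
    · have k' : p q = J (J (p r)) := by rw [e, k, add_assoc, F.h2, add_zero]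
      exact ⟨k' ▸ hp.of_mem F.h2 (F.in_J (F.in_J e)) (mt F.J0 (mt F.J0 h1.1)), .inl (by rw [k', F.J3])⟩
  exact ⟨r, hr, q, hq, f _ e, h2, c, k1.1, k1.2, sq_z F.toFm hq (F.phi1 k1.1)⟩

omit hp F' in
theorem linY (hr : r ∈ Q) (e : ν t (p r) = p r) (n : ¬ Commute t r) : ∃ y0, φ y0 = 0 ∧
    ∀ b ∈ P, Commute b z → ∀ a ∈ Q, Commute a t → ν b (p a) + p a = 0 ∨ ν b (p a) + p a = y0 := by
  obtain ⟨y, hy, h⟩ := two_el (Y2 Z F.toFm hr e n)
  refine ⟨p y, (F.sq hy.1).2 (Z.ksq hy.1 hy.2), fun b hb cb a ha ca => ?_⟩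
  obtain ⟨y', h1, h2, h3⟩ := Z.act_B F.toFm ha ca hb cb
  rw [← h3]
  rcases h y' ⟨h1, h2⟩ with k | k <;> rw [k]
  exacts [.inl F.p1, .inr rfl]

theorem linB (ht : t ∈ H) : 64 ≤ #(Q ⊓ C1[t] : Subgroup G) := by
  obtain ⟨r, hr, q, hq, e, n, c, k1, k2, k3⟩ := linA hp Z F F' ht
  obtain ⟨-, -, b, hb, -, -, cb, -, -, bb⟩ := linA hp Z.symm F' F (k3 ▸ F'.sqH c)
  obtain ⟨y0, -, hy⟩ := linY Z F hr e n
  have f := fun w => F.fix2 (w := w) hp ht (by rw [Z.tt, one_mul])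
  have r2 : pj J (p r) = p r := F.pj_of (by
    rcases k2 with k | k <;> rw [k]
    exacts [F.in_J k1.2.1, k1.2.1 ▸ F.in_J (F.in_J k1.2.1)])
  have h1 : ∀ c, ν t c = c → ν b c + c + pj J (ν b c + c) = 0 ∨ ν b c + c + pj J (ν b c + c) = y0 + pj J y0 := by
    intro c hc
    obtain ⟨a, ha, ca, k⟩ := F.kerN Z.c Z.tt hr e n hc
    have : ν b c + c + pj J (ν b c + c) = ν b (p a) + p a + pj J (ν b (p a) + p a) := by
      rcases k with rfl | rfl
      · rfl
      · rw [F.pj_N cb, F.pj_N cb]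
        simp only [map_add, r2]
        linear_combination (norm := abel1) F.h2 (ν b (p r)) + F.h2 (p r)
    rw [this]
    exact (hy b hb cb a ha ca).imp (fun k => by simp [k]) fun k => by rw [k]
  have h2 : ∀ v, pj J (ν t v + v) = 0 := fun v => by rw [F.pj_N Z.c, f _ (F.pj_in v), F.h2]
  have h3 : ∀ v, ν b (ν b v + v) + (ν b v + v) = ν t v + v := fun v => by
    rw [map_add, ← F.nu_mul cb cb, bb]
    linear_combination (norm := abel1) F.h2 (ν b v)
  have h4 : ∀ v, ν t (ν b v + v) + (ν b v + v) = 0 → ν t v + v = 0 ∨ ν t v + v = y0 + pj J y0 := fun v h => by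
    simpa only [h3, h2, add_zero] using h1 _ (eq_of_add F.h2 h)
  have h5 : ∀ v, ν t (ν b v + v) + (ν b v + v) = 0 ∨ ν t (ν b v + v) + (ν b v + v) = y0 + pj J y0 := fun v => by
    have := h1 _ (F.fixN Z.c Z.tt v)
    rwa [h3 v |>.symm, h3, h2, add_zero] at this
  by_cases h : ∀ v, ν t (ν b v + v) + (ν b v + v) = 0
  · exact F.card64 Z.c Z.tt (X := Fin 2) (by simp) ![0, y0 + pj J y0] fun v => (h4 v (h v)).elim (⟨0, ·⟩) (⟨1, ·⟩)
  obtain ⟨u, hu⟩ := not_forall.1 h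
  refine F.card64 Z.c Z.tt (X := Fin 4) (by simp) ![0, y0 + pj J y0, ν t u + u, y0 + pj J y0 + (ν t u + u)] fun v => ?_
  rcases h5 v with k | k
  · exact (h4 v k).elim (⟨0, ·⟩) (⟨1, ·⟩)
  have := h4 (v + u) (by
    have := k.trans ((h5 u).resolve_left hu).symm
    simp only [map_add] at this ⊢
    linear_combination (norm := abel1) this + F.h2 (ν t (ν b u)) + F.h2 (ν t u) + F.h2 (ν b u) + F.h2 u)
  rw [map_add, add_add_add_comm] at this
  exact this.elim (fun k => ⟨2, eq_of_add F.h2 k⟩) fun k => ⟨3, show _ = _ + _ by rw [← k, add_assoc, F.h2, add_zero]⟩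

theorem lin (ht : t ∈ H) : False := by
  obtain ⟨r, hr, q, hq, e, n, c, k1, k2, k3⟩ := linA hp Z F F' ht
  have hB := linB hp Z.symm F' F (k3 ▸ F'.sqH c)
  have hR := linB hp Z F F' ht
  have hY := Y2 Z F.toFm hr e n
  obtain ⟨y0, fy, hy⟩ := linY Z F hr e n
  have r2 : J (J (p r)) = J (p r) + p r := by
    rcases k2 with k | k <;> rw [k]
    exacts [F.in_J k1.2.1, k1.2.1 ▸ F.in_J (F.in_J k1.2.1)]
  have hC : 64 ≤ Nat.card (Cf ν t) := by
    have := dbl (A := Q ⊓ C1[t]) (B := F.pre (Cf ν t)) (fun a ha => ⟨ha.1, (mem_Cf F.toFm).2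
      (F.nu_fix Z.c ha.1 (mem_cent1.1 ha.2).symm)⟩) ⟨hr, (mem_Cf F.toFm).2 e⟩ fun h => n (mem_cent1.1 h.2).symm
    rw [card_pre] at this; omega
  obtain ⟨s, s1, s2, a, ha, ca, s3⟩ : ∃ s, ν t s = s ∧ β (p q) s = 0 ∧ ∃ a ∈ Q, Commute a t ∧ s = p a + p r := by
    by_contra k
    push Not at k
    have l : ∀ s, ν t s = s → β (p q) s = 0 → ∃ a ∈ Q, Commute a t ∧ φ (p a) = 1 ∧ (p a = s ∨ p a = s + p q) := by
      intro s s1 s2
      obtain ⟨a, ha, ca, h⟩ := F.kerN Z.c Z.tt hr e n s1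
      obtain rfl := h.resolve_right (k s s1 s2 a ha ca)
      rcases z2_cases (φ (p a)) with h | h
      · exact ⟨a * q, mul_mem ha hq, ca.mul_left c, by rw [F.add ha hq, F.pol, h, F.phi1 k1, F.symm, s2]; rfl,
          .inr (F.add ha hq)⟩
      · exact ⟨a, ha, ca, h, .inl rfl⟩
    let f : Cf ν t →+ ZMod 2 := (β (p q)).comp (Cf ν t).subtype
    have h1 := iso16 F.toFm (S := f.ker.map (Cf ν t).subtype) (by
      rintro _ ⟨u, hu, rfl⟩ _ ⟨v, hv, rfl⟩
      have hu : β (p q) u = 0 := hu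
      have hv : β (p q) v = 0 := hv
      obtain ⟨a, ha, ca, a1, a2⟩ := l u ((mem_Cf F.toFm).1 u.2) hu
      obtain ⟨b, hb, cb, b1, b2⟩ := l v ((mem_Cf F.toFm).1 v.2) hv
      have := q8R Z F.toFm F' ha hb ca cb a1 b1
      rcases a2 with a2 | a2 <;> rcases b2 with b2 | b2 <;>
        simpa [a2, b2, hv, F.symm _ (p q), hu, F.alt] using this)
    have h2 := f.ker.card_mul_index
    have h3 : f.ker.index ≤ 2 := by
      rw [AddSubgroup.index_ker]
      exact (AddSubgroup.card_le_card_addGroup _).trans (Nat.card_zmod 2).le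
    rw [AddSubgroup.card_map_of_injective (Cf ν t).subtype_injective] at h1
    nlinarith
  have e4 : ∀ x ∈ (P ⊓ C1[z] ⊓ H : Subgroup G), x * x * (x * x) = 1 := fun x hx => ex4 F'.toFm hx.1.1
  have cY : #(P ⊓ C1[z] ⊓ H ⊓ Q : Subgroup G) ≤ 2 := le_trans
    (card_le_of_le (le_inf inf_le_right (inf_le_left.trans (inf_le_left.trans inf_le_left)))) hY
  have g1 := F.g16 _ inf_le_right e4
  obtain ⟨σ, hσ, nσ⟩ := exists_nmem (A := P ⊓ C1[z]) (T := H) (by omega)
  have cσ := mem_cent1.1 hσ.2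
  have q1 : ν σ (p q) = p q := eq_of_add F.h2 (by
    refine (hy σ hσ.1 cσ q hq c).elim id fun k => k.trans (by_contra fun k0 => ?_)
    have := F.phi1 (hp.of_mem F.h2 (w := y0) (by
      rw [← k]; simp only [map_add, F.in_nu cσ k1.2.1, k1.2.1]; abel) k0)
    rw [fy] at this; cases this)
  have y1 : pj J y0 ≠ 0 := fun k => k1.1 (F.semfix cσ nσ k1.2.1 q1 (by
    have h1 : pj J (ν σ (p a) + p a) = 0 := (hy σ hσ.1 cσ a ha ca).elim (fun h => by simp [h]) fun h => h ▸ k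
    have h2 : pj J (p a) = pj J s + p r := by rw [s3, map_add, F.pj_of r2, add_assoc, F.h2, add_zero]
    have h3 : ν σ (pj J s) = pj J s := by
      have h := F.b_pj k1.2.1 s
      rcases k1.2.2 _ (F.pj_in s) with m | m | m | m <;> rw [m] at h ⊢
      exacts [map_zero _, q1, by simp [s2, F.bJ k1.2.1, F.phi1 k1] at h,
        by simp [s2, F.bJ k1.2.1, F.phi1 k1, F.alt] at h]
    rw [F.pj_N cσ, h2, map_add, h3, add_add_add_comm, F.h2, zero_add] at h1
    have h4 := eq_of_add F.h2 h1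
    rcases k2 with m | m <;> rw [m] at h4
    exacts [h4, by rwa [map_add, q1, add_left_inj] at h4]))
  have fx : ∀ b ∈ (P ⊓ C1[z] ⊓ H : Subgroup G), ∀ u, ν t u = u → ν b u = u := fun b hb u hu => by
    have cb := mem_cent1.1 hb.1.2
    have f := fun w => F.fix2 (w := w) hp hb.2 (e4 b hb)
    obtain ⟨a, ha, ca, k⟩ := F.kerN Z.c Z.tt hr e n hu
    have := eq_of_add F.h2 ((hy b hb.1.1 cb a ha ca).resolve_right fun m => y1 (by
      rw [← m, F.pj_N cb, f _ (F.pj_in _), F.h2]))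
    rcases k with rfl | rfl
    exacts [this, by rw [map_add, this, f _ r2]]
  have g2 := F.g8 _ inf_le_right e4 fun a ha b hb => F.co (fun u => ν t u = u)
    (fun w hw => F.of_perp Z.c Z.tt fun v => hw _ (F.fixN Z.c Z.tt v)) (mem_cent1.1 ha.1.2) (mem_cent1.1 hb.1.2)
    (fx a ha) (fx b hb)
  have := F.halfH (inf_le_right : P ⊓ C1[z] ≤ _)
  omega

omit hp Z F F' in
theorem bPD (all : All D φ β J) (hp : Pl J v0) (Z : PD D z t Q P) (F : AF z Q H p φ β ν J)
    (F' : AF t P K p' φ β ν' J) : False := by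
  by_cases ht : t ∈ H
  · exact lin hp Z F F' ht
  by_cases hz : z ∈ K
  · exact lin hp Z.symm F' F hz
  have c := Z.c.symm
  have sq : ∀ b ∈ P, Commute b z → b * b = 1 := fun b hb cb =>
    (F'.es.sq b hb).resolve_right fun e => ht (e ▸ F.sqH cb)
  obtain ⟨v, hv, nv⟩ : ∃ v, J (J v) = J v + v ∧ ν' z v ≠ v := by
    by_contra k
    push Not at k
    exact hp.1 (F'.semfix c hz hp.2.1 (k _ hp.2.1) (k _ (F.in_J hp.2.1)))
  obtain ⟨r, hr, e⟩ := F'.surj (ν' z v + v)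
  have f : ν' z (p' r) = p' r := e ▸ F'.fixN c F.zz v
  have n : ¬ Commute z r := fun cr => by
    have := F.phi1 (hp.of_mem F.h2 (w := ν' z v + v) (by simp only [map_add, F'.in_nu c hv, hv]; abel)
      (mt (eq_of_add F.h2) nv))
    rw [← e, (F'.sq hr).2 (sq r hr cr.symm)] at this
    cases this
  have dD : ∀ b ∈ P, Commute b z → z * b ∈ D := fun b hb cb => by
    obtain ⟨w, hw⟩ := F'.inW' c F.zz hr f n (w := p' b) (fun a ha ca => beta_of F.toFm ((F'.sq hb).2 (sq b hb cb))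
      ((F'.sq ha).2 (sq a ha ca)) (F'.add hb ha ▸ (F'.sq (mul_mem hb ha)).2 (sq _ (mul_mem hb ha) (cb.mul_left ca))))
      (e ▸ F'.perp_fix c (F'.nu_fix c hb cb.symm) v)
    exact Z.symm.allD F'.toFm (Z.symm.tzD F'.toFm hr f n) hb hw
  have h1 := F'.card16 c F.zz
  have h2 := F.halfH (inf_le_right : P ⊓ C1[z] ≤ _)
  have h3 : #(P ⊓ C1[z] ⊓ H ⊓ Q : Subgroup G) ≤ 2 :=
    le_trans (card_le_of_le (inf_le_inf_right _ (inf_le_left.trans inf_le_left))) (Y2 Z.symm F'.toFm hr f n)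
  obtain ⟨b, hb, nb⟩ := exists_nmem (A := P ⊓ C1[z] ⊓ H) (T := Q) (by omega)
  have cb := mem_cent1.1 hb.1.2
  obtain ⟨P', K', p'', ν'', F'', Z'⟩ := all.pd Z (dD b hb.1.1 cb) ((Commute.refl z).mul_left cb)
    fun h => nb (by rw [mul_eq_left.1 h]; exact one_mem _)
  exact lin hp Z' F F'' (mul_mem (F.QH F.es.zQ) hb.2)

end Cfsg.Agent.A6N
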