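import Cfsg.Agent.A6N.X1
import Cfsg.Agent.U6R.Asm
import Cfsg.Agent.Invol.ZS
import Cfsg.Agent.Sig.FStar

/-! From the isolation of `z` in a frame `XF` to the non-simplicity of `G` (helper9). -/

set_option autoImplicit false

namespace Cfsg.Agent.A6N

open Cfsg.Agent.Fischer Cfsg.Agent.FI Subgroup Cfsg.Agent.BG Cfsg.Agent.LES Cfsg.Agent.PGrp Cfsg.Agent.U6R Equiv

universe u

/-- The statement that `z` is isolated in every frame. -/
def Main {G : Type u} [Group G] (z : G) : Prop :=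
  ∀ {V : Type u} [AddCommGroup V] [Finite V] {Q H : Subgroup G} {p : G → V} {φ : V → ZMod 2}
    {β : V →+ V →+ ZMod 2} {ν : G → V →+ V} {J : V →+ V} {ρ : G → Perm (Fin 3) × Perm (Fin 6)}, XF z Q H p φ β ν J ρ →
    ((∀ v, J (J v) = J v + v) ∨ ∃ v, Pl J v) → ∀ t, IsConj z t → Commute t z → t = z

theorem glue {G : Type u} [Group G] [Finite G] {z : G} (hz : orderOf z = 2) (hJ : IsExtraspecial 2 (pCore 2 C1[z]))
    (hJc : #(pCore 2 C1[z]) = 2 ^ 9) (hCJ : C[pCore 2 C1[z]] ≤ pCore 2 C1[z]) (r : C1[z] →* Perm (Fin 3) × Perm (Fin 6))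
    (kr : ∀ a, r a = 1 ↔ a ∈ pCore 2 C1[z]) (sur : ∀ s t, Perm.sign s = 1 → Perm.sign t = 1 → ∃ a, r a = (s, t))
    (main : Main z) : ¬ IsSimpleGroup G := fun hS => by
  obtain ⟨h, hQ⟩ := U6R.le_of hz hJ hJc hCJ
  obtain ⟨V, _, _, H, p, φ, β, ν, J, ρ, F⟩ := exists_XF h hQ r
    (fun a => (kr a).trans (Subgroup.mem_map_iff_mem (Subgroup.subtype_injective _)).symm) sur
  have i := Invol.isolated_of_forall hz fun t a b => main F F.dich t a b.symm
  have hO : pPrimeCore 2 G = ⊥ := (hS.eq_bot_or_eq_top_of_normal _ inferInstance).resolve_right fun e =>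
    absurd ((Invol.odd_oddCore (G := G)).of_dvd_nat (hz ▸ orderOf_dvd_natCard _ (e.ge (mem_top z)))) (by decide)
  have zc : z ∈ center G := mem_center_iff.2 fun g => by
    obtain ⟨o, h1, c, h2, rfl⟩ := Invol.Isolated.factor i g
    rw [hO, mem_bot] at h1
    rw [h1, one_mul, h2.eq]
  have : zpowers z = ⊤ := (hS.eq_bot_or_eq_top_of_normal _ (normal_of_le_center (zpowers_le.2 zc))).resolve_left fun e =>
    h.toES.z1 (zpowers_eq_bot.1 e)
  have := card_le_of_le (le_top.trans this.ge : Sig.pcIn 2 C1[z] ≤ zpowers z)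
  rw [hQ, Nat.card_zpowers, hz] at this
  omega

theorem glue1 {G : Type u} [Group G] [Finite G] {z : G} (hz : orderOf z = 2) (hJ : IsExtraspecial 2 (pCore 2 C1[z]))
    (hJc : #(pCore 2 C1[z]) = 2 ^ 9) (hCJ : C[pCore 2 C1[z]] ≤ pCore 2 C1[z])
    (e : Nonempty (C1[z] ⧸ pCore 2 C1[z] ≃* Perm (Fin 3) × alternatingGroup (Fin 6)) ∨
      Nonempty (C1[z] ⧸ pCore 2 C1[z] ≃* Perm (Fin 3) × Perm (Fin 6))) (main : Main z) : ¬ IsSimpleGroup G := by
  obtain ⟨⟨e⟩⟩ | ⟨⟨e⟩⟩ := e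
  · refine glue hz hJ hJc hCJ (((MonoidHom.id _).prodMap (alternatingGroup _).subtype).comp
      (e.toMonoidHom.comp (QuotientGroup.mk' _))) (fun a => ?_) (fun s t _ h => ?_) main
    · rw [← QuotientGroup.eq_one_iff, ← e.map_eq_one_iff, Prod.ext_iff, Prod.ext_iff, Subtype.ext_iff]; rfl
    · obtain ⟨a, k⟩ := (e.surjective.comp QuotientGroup.mk_surjective) (s, ⟨t, h⟩)
      exact ⟨a, congrArg ((MonoidHom.id _).prodMap (alternatingGroup _).subtype) k⟩
  · exact glue hz hJ hJc hCJ (e.toMonoidHom.comp (QuotientGroup.mk' _)) (fun a => by simp)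
      (fun s t _ _ => (e.surjective.comp QuotientGroup.mk_surjective) (s, t)) main

theorem glue2 {G : Type u} [Group G] [Finite G] {z : G} (hz : orderOf z = 2) [(generalizedFittingSubgroup C1[z]).Normal]
    (hJ : IsExtraspecial 2 (generalizedFittingSubgroup C1[z])) (hJc : #(generalizedFittingSubgroup C1[z]) = 2 ^ 9)
    (e : C1[z] ⧸ generalizedFittingSubgroup C1[z] ≃* MonoidHom.ker (Perm.sign.comp (MonoidHom.fst (Perm (Fin 3))
      (Perm (Fin 6))) * Perm.sign.comp (MonoidHom.snd (Perm (Fin 3)) (Perm (Fin 6))))) (main : Main z) :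
    ¬ IsSimpleGroup G := by
  have := Fact.mk Nat.prime_two
  have k : generalizedFittingSubgroup C1[z] = pCore 2 C1[z] := by
    rw [← Sig.fstarIn_top, ← Sig.pcIn_top, Sig.fstarIn_eq_pcIn_iff_isPGroup, Sig.fstarIn_top]
    exact hJ.1.1
  refine glue hz (k ▸ hJ) (k ▸ hJc) (k ▸ Sig.centralizer_fstar_le) ((Subgroup.subtype _).comp
    (e.toMonoidHom.comp (QuotientGroup.mk' _))) (fun a => ?_) (fun s t h1 h2 => ?_) main
  · rw [← k, ← QuotientGroup.eq_one_iff, ← e.map_eq_one_iff, Subtype.ext_iff]; rfl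
  · obtain ⟨a, k⟩ := (e.surjective.comp QuotientGroup.mk_surjective) ⟨(s, t), by simp [h1, h2]⟩
    exact ⟨a, congrArg Subtype.val k⟩

end Cfsg.Agent.A6N
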