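import Cfsg.Agent.A6N.A3
import Cfsg.Agent.A6N.B1
import Cfsg.Agent.A6N.B2
import Cfsg.Agent.A6N.Glue

/-! `main` (helper24): in a frame `XF` the involution `z` is isolated. -/

set_option autoImplicit false
set_option linter.unusedSectionVars false

namespace Cfsg.Agent.A6N

open Cfsg.Agent.Fischer Cfsg.Agent.FI Subgroup Cfsg.Agent.BG Cfsg.Agent.LES Cfsg.Agent.PGrp Cfsg.Agent.U6R Equiv

variable {G : Type*} [Group G] [Finite G] {V : Type*} [AddCommGroup V] [Finite V] {z : G}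
  {Q H : Subgroup G} {p : G → V} {φ : V → ZMod 2} {β : V →+ V →+ ZMod 2} {ν : G → V →+ V}
  {J : V →+ V} {ρ : G → Perm (Fin 3) × Perm (Fin 6)}

theorem main (F : XF z Q H p φ β ν J ρ) (hd : (∀ v, J (J v) = J v + v) ∨ ∃ v, Pl J v) (t : G) (h : IsConj z t)
    (c : Commute t z) : t = z := by
  have wc : ∀ g : G, g * z * g⁻¹ ∈ Q → g * z * g⁻¹ = z := fun g hg => by_contra fun ne => by
    have zP := F.le.sym (by rw [F.cardQ]; decide) hg
    rcases hd with fa | ⟨v, hv⟩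
    exacts [F.aQ fa (F.toAF.conj g) hg zP ne, bQ F.toAF (F.toAF.conj g) hv hg zP ne]
  have wc' : ∀ g : G, ∀ e, IsConj z e → e ∈ cj g Q → e = g * z * g⁻¹ := fun g e he m => by
    obtain ⟨k, rfl⟩ := isConj_iff.1 he
    have := wc (g⁻¹ * k) (by simpa [mul_assoc] using mem_cj.1 m)
    rw [← conj_inj g⁻¹]; simpa [mul_assoc] using this
  have all : All {x | IsConj z x} φ β J := fun d hd => by
    obtain ⟨g, rfl⟩ := isConj_iff.1 hd
    exact ⟨_, _, _, _, F.toAF.conj g, wc' g⟩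
  obtain ⟨g, rfl⟩ := isConj_iff.1 h
  by_contra ne
  have Z : PD {x | IsConj z x} z (g * z * g⁻¹) Q (cj g Q) :=
    ⟨fun k d hd => hd.trans (isConj_iff.2 ⟨k, rfl⟩), IsConj.refl z, h, F.le, F.le.conj g, c,
      fun d hd m => by obtain ⟨k, rfl⟩ := isConj_iff.1 hd; exact wc k m, wc' g, ne⟩
  rcases hd with fa | ⟨v, hv⟩
  exacts [aPD fa Z F.toAF (F.toAF.conj g) all, bPD all hv Z F.toAF (F.toAF.conj g)]

end Cfsg.Agent.A6N
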