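import Cfsg.Agent.A6N.X0

/-! Tools for the frames `AF` (helper24): fixed spaces `Cf`, `card_pre`, isotropic subgroups (`iso16`), `J`-invariant
subgroups (`J4`, `sq_le`, `Ln`), pairs (`q8R`, `Y2`, `All`). -/

set_option autoImplicit false
set_option linter.unusedSectionVars false

namespace Cfsg.Agent.A6N

open Cfsg.Agent.Fischer Cfsg.Agent.FI Subgroup Cfsg.Agent.BG Cfsg.Agent.LES Cfsg.Agent.PGrp Cfsg.Agent.U6R

variable {G : Type*} [Group G] [Finite G] {V : Type*} [AddCommGroup V] [Finite V] {z t x y a b g r d : G}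
  {Q H P K A T : Subgroup G} {p p' : G → V} {φ : V → ZMod 2} {β : V →+ V →+ ZMod 2} {ν ν' : G → V →+ V} {u v w n : V}
  {J : V →+ V} {D : Set G} {S S' : AddSubgroup V}

/-- The fixed space. -/
abbrev Cf (ν : G → V →+ V) (t : G) : AddSubgroup V := (ν t + AddMonoidHom.id V).ker

theorem exists_ne_of_lt (h : 2 < #A) (x : G) : ∃ a ∈ A, a ≠ 1 ∧ a ≠ x := by
  by_contra k
  push Not at k
  have := Nat.card_le_card_of_injective (fun a : A => by classical exact decide (a.1 = 1)) fun a b e => by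
    have e : a.1 = 1 ↔ b.1 = 1 := by simpa using e
    by_cases h : a.1 = 1
    exacts [Subtype.ext (h.trans (e.1 h).symm), Subtype.ext ((k a a.2 h).trans (k b b.2 (mt e.2 h)).symm)]
  simp only [Nat.card_eq_fintype_card, Fintype.card_bool] at this h
  omega

theorem exists_nmem (h : #(A ⊓ T : Subgroup G) < #A) : ∃ a ∈ A, a ∉ T := by
  by_contra k
  push Not at k
  rw [inf_eq_left.2 k] at h
  exact h.false

section Fm
variable (F : Fm z Q H p φ β ν)
include F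

theorem mem_Cf : v ∈ Cf ν t ↔ ν t v = v := ⟨eq_of_add F.h2, fun h => (congrArg (· + v) h).trans (F.h2 v)⟩

theorem card_pre (U : AddSubgroup V) : #(F.pre U) = 2 * Nat.card U := by
  classical
  refine le_antisymm ?_ (F.card_le Subtype.val Subtype.val_injective ⟨F.es.zQ, F.pz ▸ zero_mem _⟩
    fun v : U => let ⟨x, hx, e⟩ := F.surj v.1; ⟨x, ⟨hx, e ▸ v.2⟩, hx, e⟩)
  choose s s1 s2 using F.surj
  have := Nat.card_le_card_of_injective (fun x : F.pre U => ((⟨p x, x.2.2⟩ : U), decide (x.1 = s (p x)))) fun x y e => by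
    obtain ⟨e1, e2⟩ := Prod.ext_iff.1 e
    have e1 : p x = p y := congrArg Subtype.val e1
    dsimp only at e2
    rw [decide_eq_decide, ← e1] at e2
    rcases (F.eq_iff (s1 _) x.2.1).1 (s2 (p x)) with a | a <;>
      rcases (F.eq_iff (s1 _) y.2.1).1 ((s2 (p x)).trans e1) with b | b
    exacts [Subtype.ext (a.trans b.symm), Subtype.ext (a.trans (e2.1 a).symm), Subtype.ext ((e2.2 b).trans b.symm),
      Subtype.ext (a.trans b.symm)]
  simpa [mul_comm] using this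

theorem iso16 (h : ∀ u ∈ S, ∀ v ∈ S, β u v = 0) : Nat.card S ≤ 16 := by
  have := F.ab32 (A := F.pre S) (fun _ h => h.1) ⟨F.es.zQ, F.pz ▸ zero_mem _⟩
    fun a ha b hb => (F.comm ha.1 hb.1).1 (h _ ha.2 _ hb.2)
  rw [card_pre] at this; omega

theorem beta_of (h1 : φ u = 0) (h2 : φ v = 0) (h3 : φ (u + v) = 0) : β u v = 0 := by
  rw [F.pol, h1, h2] at h3; simpa using h3

theorem ex4 (hx : x ∈ Q) : x * x * (x * x) = 1 := by rcases F.es.sq x hx with e | e <;> simp [e, F.zz]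

theorem sq_z (hx : x ∈ Q) (h : φ (p x) = 1) : x * x = z :=
  (F.es.sq x hx).resolve_left fun e => by rw [(F.sq hx).2 e] at h; cases h

theorem comm_z (hx : x ∈ Q) (hy : y ∈ Q) (h : β (p x) (p y) = 1) : x * y * x⁻¹ * y⁻¹ = z := by
  rw [F.es.conj_of_not hx hy (fun c => by rw [(F.comm hx hy).2 c] at h; cases h), (F.Qz hy).eq, mul_inv_cancel_right]

theorem iso_of (ht : Commute t z) (tt : t * t = 1) (hk : ∀ w, ν t w = w → ∃ v, w = ν t v + v) (h1 : ν t u = u)
    (h2 : ν t v = v) : β u v = 0 := by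
  obtain ⟨w, rfl⟩ := hk v h2
  exact F.perp_fix ht h1 w

theorem nu_z (hb : Commute b z) (hy : y ∈ Q) (v : V) : ν (z * b * y) v = ν b v := by
  rw [F.nu_mul ((Commute.refl z).mul_left hb) (F.Qz hy), F.nu_mul (.refl z) hb, F.nu_Q F.es.zQ, F.nu_Q hy]

end Fm

theorem J4 (h2 : ∀ v : V, v + v = 0) (fa : J (J w) = J w + w) (J3 : ∀ v, J (J (J v)) = v) (h : S ≤ S')
    (i : ∀ v ∈ S, J v ∈ S) (i' : ∀ v ∈ S', J v ∈ S') (hw : w ∈ S') (n : w ∉ S) : 4 * Nat.card S ≤ Nat.card S' := by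
  have n1 : J w ∉ S := fun k => n (J3 w ▸ i _ (i _ k))
  have n2 : J w + w ∉ S := fun k => n (J3 w ▸ i _ (fa ▸ k))
  have n3 : w + J w ∉ S := by rwa [add_comm]
  have n4 : J w + w + w ∉ S := by rwa [add_assoc, h2, add_zero]
  have n5 : w + (J w + w) ∉ S := by rwa [add_comm]
  have n6 : J w + (J w + w) ∉ S := by rwa [← add_assoc, h2, zero_add]
  have n7 : J w + w + J w ∉ S := by rwa [add_comm]
  let f : Fin 4 → V := ![0, w, J w, J w + w]
  have hf : ∀ i, f i ∈ S' := fun j => by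
    fin_cases j
    exacts [zero_mem _, hw, i' _ hw, add_mem (i' _ hw) hw]
  have := Nat.card_le_card_of_injective (fun x : Fin 4 × S => (⟨f x.1 + x.2, add_mem (hf _) (h x.2.2)⟩ : S')) (by
    rintro ⟨i, a⟩ ⟨j, b⟩ e
    have e : f i + a = f j + b := congrArg Subtype.val e
    have k : f i + f j ∈ S := by
      have : f i + f j = a + b := by linear_combination (norm := abel1) e + h2 (f j) - h2 a
      exact this ▸ add_mem a.2 b.2
    obtain rfl : i = j := by fin_cases i <;> fin_cases j <;> simp_all [f]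
    rw [Subtype.ext (add_left_cancel e)])
  simpa using this

/-- The line spanned by `n`. -/
def Ln (h2 : ∀ v : V, v + v = 0) (J : V →+ V) (n : V) : AddSubgroup V where
  carrier := {v | v = 0 ∨ v = n ∨ v = J n ∨ v = J n + n}
  zero_mem' := .inl rfl
  add_mem' := by
    rintro _ _ (rfl | rfl | rfl | rfl) (rfl | rfl | rfl | rfl) <;>
      simp [h2, c2' h2, add_assoc, add_comm, add_left_comm]
  neg_mem' := fun {x} h => by rwa [neg_eq_of_add_eq_zero_left (h2 x)]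

theorem Ln_J (h2 : ∀ v : V, v + v = 0) (fa : J (J n) = J n + n) (v : V) (h : v ∈ Ln h2 J n) : J v ∈ Ln h2 J n := by
  rcases h with rfl | rfl | rfl | rfl
  exacts [.inl (map_zero J), .inr (.inr (.inl rfl)), .inr (.inr (.inr fa)),
    .inr (.inl (by rw [map_add, fa, add_right_comm, h2, zero_add]))]

theorem Ln_card (h2 : ∀ v : V, v + v = 0) (n : V) : Nat.card (Ln h2 J n) ≤ 4 := by
  simpa using Nat.card_le_card_of_surjective (α := Fin 4) (β := Ln h2 J n)
    ![⟨0, .inl rfl⟩, ⟨n, .inr (.inl rfl)⟩, ⟨_, .inr (.inr (.inl rfl))⟩, ⟨_, .inr (.inr (.inr rfl))⟩] (by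
      rintro ⟨_, rfl | rfl | rfl | rfl⟩
      exacts [⟨0, rfl⟩, ⟨1, rfl⟩, ⟨2, rfl⟩, ⟨3, rfl⟩])

namespace AF
variable (F : AF z Q H p φ β ν J)
include F

theorem bJ (fa : J (J v) = J v + v) : β v (J v) = φ v := by
  have := F.pol (J v) v
  rw [← fa, F.Jphi, F.Jphi, z2_add, zero_add] at this
  rw [F.symm, this]

theorem semfix (hg : Commute g z) (n : g ∉ H) (fa : J (J v) = J v + v) (h : ν g v = v) (h' : ν g (J v) = J v) : v = 0 := by
  rw [F.sem hg n, h, fa] at h'; simpa using h'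

theorem CfJ (hg : g ∈ H) (v : V) (h : v ∈ Cf ν g) : J v ∈ Cf ν g :=
  (mem_Cf F.toFm).2 (by rw [F.lin hg, (mem_Cf F.toFm).1 h])

theorem sq_le (fa : ∀ v, J (J v) = J v + v) (hg : Commute g z) (n : g ∉ H) (i : ∀ v ∈ S, J v ∈ S) :
    Nat.card (S ⊓ Cf ν g : AddSubgroup V) * Nat.card (S ⊓ Cf ν g : AddSubgroup V) ≤ Nat.card S := by
  rw [← Nat.card_prod]
  refine Nat.card_le_card_of_injective (fun x => (⟨x.1 + J x.2, add_mem x.1.2.1 (i _ x.2.2.1)⟩ : S)) ?_
  rintro ⟨a, b⟩ ⟨a', b'⟩ e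
  have e : a.1 + J b = a' + J b' := congrArg Subtype.val e
  have k : J (b + b') = a + a' := by
    rw [map_add, ← c2' F.h2 a.1 (J b), e, add_assoc, add_assoc, F.h2, add_zero]
  have := F.semfix hg n (fa _) ((mem_Cf F.toFm).1 (add_mem b.2.2 b'.2.2)) (k ▸ (mem_Cf F.toFm).1 (add_mem a.2.2 a'.2.2))
  obtain rfl : b = b' := Subtype.ext (eq_of_add F.h2 this)
  rw [Subtype.ext (add_right_cancel e)]

end AF

/-- Every member of `D` has a frame in which it is weakly closed. -/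
def All (D : Set G) (φ : V → ZMod 2) (β : V →+ V →+ ZMod 2) (J : V →+ V) : Prop :=
  ∀ d ∈ D, ∃ P K p' ν', AF d P K p' φ β ν' J ∧ ∀ e ∈ D, e ∈ P → e = d

theorem All.pd (h : All D φ β J) (Z : PD D z t Q P) (hd : d ∈ D) (c : Commute d z) (n : d ≠ z) :
    ∃ P K p' ν', AF d P K p' φ β ν' J ∧ PD D z d Q P :=
  let ⟨P, K, p', ν', a, b⟩ := h d hd
  ⟨P, K, p', ν', a, Z.cl, Z.zD, hd, Z.hQ, a.le, c, Z.wQ, b, n⟩

variable (Z : PD D z t Q P) (F : Fm z Q H p φ β ν)
include Z F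

theorem q8R (F' : AF t P K p' φ β ν' J) (hx : x ∈ Q) (hy : y ∈ Q) (cx : Commute x t) (cy : Commute y t)
    (h1 : φ (p x) = 1) (h2 : φ (p y) = 1) : β (p x) (p y) = 0 := by
  refine (z2_cases _).resolve_right fun h => Z.symm.tQ ?_
  rw [← sq_z F hx h1]
  exact F'.q8 cx cy (by rw [sq_z F hx h1, sq_z F hy h2]) (by rw [comm_z F hx hy h, sq_z F hx h1])

theorem Y2 (hr : r ∈ Q) (e : ν t (p r) = p r) (n : ¬ Commute t r) : #(Q ⊓ P : Subgroup G) ≤ 2 := by
  obtain ⟨A, h1, h2, h3⟩ := chX (Q ⊓ P) (fun y => β (p y) (p r)) fun a ha b hb => by simp [F.add ha.1 hb.1]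
  rwa [show A = ⊥ from eq_bot_iff.2 fun y hy => Z.y1 F hr e n (h1 hy).1 (h1 hy).2 (h3 y hy), card_bot,
    Nat.card_zmod] at h2

theorem cmt (hb : b ∈ P) (cb : Commute b z) (v : V) : ν b (ν t v + v) = ν t (ν b v) + ν b v := by
  rw [map_add, ← F.nu_mul cb Z.c, (Z.hP.zc b hb).eq, F.nu_mul Z.c cb]

theorem fixY (hy : y ∈ Q) (hy' : y ∈ P) : ν t (p y) = p y := F.nu_fix Z.c hy (Z.hP.zc y hy').symm

omit F in
theorem tzc : z * t ∈ D ↔ t * z ∈ D := by rw [Z.c.eq]

end Cfsg.Agent.A6N
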