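import Cfsg.Agent.U6R.Non

/-! Frames for `C(z) / Q ≤ S₃ × S₆` containing `A₃ × A₆` (helper24): the abstract data `AF` (the action `J` of the
normal subgroup of order three and facts on the 2-subgroups of `S₃ × S₆`), the concrete data `XF`, the plane `Pl`. -/

set_option autoImplicit false
set_option linter.unusedSectionVars false

namespace Cfsg.Agent.A6N

open Cfsg.Agent.Fischer Cfsg.Agent.FI Subgroup Cfsg.Agent.BG Cfsg.Agent.LES Cfsg.Agent.PGrp Cfsg.Agent.U6R Equiv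

variable {G : Type*} [Group G] [Finite G] {V : Type*} [AddCommGroup V] [Finite V] {z t x y a b g : G}
  {Q H P K : Subgroup G} {p p' : G → V} {φ : V → ZMod 2} {β : V →+ V →+ ZMod 2} {ν ν' : G → V →+ V} {u v w : V}
  {J : V →+ V} {ρ : G → Perm (Fin 3) × Perm (Fin 6)}

/-- The abstract data: `H` is the centraliser of `J`. -/
structure AF (z : G) (Q H : Subgroup G) (p : G → V) (φ : V → ZMod 2) (β : V →+ V →+ ZMod 2) (ν : G → V →+ V)
    (J : V →+ V) : Prop extends Fm z Q H p φ β ν where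
  exc : ∃ c ∈ H, ∀ v, ν c v = J v
  J3 : ∀ v, J (J (J v)) = v
  lin : ∀ {g}, g ∈ H → ∀ v, ν g (J v) = J (ν g v)
  sem : ∀ {g}, Commute g z → g ∉ H → ∀ v, ν g (J v) = J (J (ν g v))
  q8 : ∀ {x y}, Commute x z → Commute y z → x * x = y * y → x * y * x⁻¹ * y⁻¹ = x * x → x * x ∈ Q
  g16 : ∀ T ≤ H, (∀ x ∈ T, x * x * (x * x) = 1) → #T ≤ 16 * #(T ⊓ Q : Subgroup G)
  g8 : ∀ T ≤ H, (∀ x ∈ T, x * x * (x * x) = 1) → (∀ a ∈ T, ∀ b ∈ T, a * b * a⁻¹ * b⁻¹ ∈ Q) →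
    #T ≤ 8 * #(T ⊓ Q : Subgroup G)

/-- The concrete data. -/
structure XF (z : G) (Q H : Subgroup G) (p : G → V) (φ : V → ZMod 2) (β : V →+ V →+ ZMod 2) (ν : G → V →+ V)
    (J : V →+ V) (ρ : G → Perm (Fin 3) × Perm (Fin 6)) : Prop extends AF z Q H p φ β ν J where
  mul : ∀ {a b}, Commute a z → Commute b z → ρ (a * b) = ρ a * ρ b
  kr : ∀ {a}, Commute a z → (ρ a = 1 ↔ a ∈ Q)
  memH : ∀ {a}, Commute a z → (a ∈ H ↔ Perm.sign (ρ a).1 = 1)
  sur : ∀ s : Perm (Fin 6), Perm.sign s = 1 → ∃ a, Commute a z ∧ ρ a = (1, s)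
  rc : ∃ c, Commute c z ∧ (ρ c).1 ≠ 1 ∧ (ρ c).2 = 1 ∧ ∀ v, ν c v = J v

/-- `[V, J]` is the plane spanned by `v`. -/
def Pl (J : V →+ V) (v : V) : Prop :=
  v ≠ 0 ∧ J (J v) = J v + v ∧ ∀ w, J (J w) = J w + w → w = 0 ∨ w = v ∨ w = J v ∨ w = J v + v

theorem cjc {g x y : G} : Commute x (g * y * g⁻¹) ↔ Commute (g⁻¹ * x * g) y := by
  rw [← commute_conj_iff g⁻¹]; simp [mul_assoc]

theorem cjm' (g x y : G) : g⁻¹ * (x * y) * g = g⁻¹ * x * g * (g⁻¹ * y * g) := by group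

theorem card_cj (g : G) (T : Subgroup G) : #(cj g T) = #T :=
  (Nat.card_congr (T.equivMapOfInjective _ (MulAut.conj g).injective).toEquiv).symm

theorem cj_inf (g : G) (T Q : Subgroup G) : cj g⁻¹ T ⊓ Q = cj g⁻¹ (T ⊓ cj g Q) := by
  ext x; simp [mem_cj, mul_assoc]

theorem AF.conj (F : AF z Q H p φ β ν J) (g : G) :
    AF (g * z * g⁻¹) (cj g Q) (cj g H) (fun x => p (g⁻¹ * x * g)) φ β (fun x => ν (g⁻¹ * x * g)) J := by
  have le : ∀ {T}, T ≤ cj g H → cj g⁻¹ T ≤ H := fun h x hx => by simpa [mul_assoc] using mem_cj.1 (h (mem_cj.1 hx))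
  have e4 : ∀ {T : Subgroup G}, (∀ x ∈ T, x * x * (x * x) = 1) → ∀ x ∈ cj g⁻¹ T, x * x * (x * x) = 1 := fun h x hx => by
    have := h _ (mem_cj.1 hx)
    rwa [← cjm', ← cjm', inv_inv, conj_eq_one_iff] at this
  refine ⟨F.toFm.conj g, let ⟨c, a, b⟩ := F.exc; ⟨_, conj_mem_cj g a, by simpa [mul_assoc] using b⟩, F.J3,
    fun h => F.lin (mem_cj.1 h), fun h k => F.sem (cjc.1 h) (mt mem_cj.2 k), fun {x y} a b c d => ?_, fun T a b => ?_,
    fun T a b c => ?_⟩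
  · rw [mem_cj, cjm']
    exact F.q8 (cjc.1 a) (cjc.1 b) (by rw [← cjm', ← cjm', c]) (by rw [← cjm' g x x, ← d]; group)
  · simpa only [cj_inf, card_cj] using F.g16 _ (le a) (e4 b)
  · have := F.g8 _ (le a) (e4 b) fun x hx y hy => by
      have := mem_cj.1 (c _ (mem_cj.1 hx) _ (mem_cj.1 hy))
      convert this using 1; group
    simpa only [cj_inf, card_cj] using this

theorem XF.conj (F : XF z Q H p φ β ν J ρ) (g : G) : XF (g * z * g⁻¹) (cj g Q) (cj g H) (fun x => p (g⁻¹ * x * g)) φ β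
    (fun x => ν (g⁻¹ * x * g)) J fun x => ρ (g⁻¹ * x * g) :=
  ⟨F.toAF.conj g, fun a b => by rw [cjm', F.mul (cjc.1 a) (cjc.1 b)], fun a => by rw [mem_cj, F.kr (cjc.1 a)],
    fun a => by rw [mem_cj, F.memH (cjc.1 a)],
    fun s h => let ⟨a, b, c⟩ := F.sur s h; ⟨g * a * g⁻¹, (commute_conj_iff g).2 b, by simpa [mul_assoc] using c⟩,
    let ⟨c, a, b⟩ := F.rc; ⟨g * c * g⁻¹, (commute_conj_iff g).2 a, by simpa [mul_assoc] using b⟩⟩

namespace AF
variable (F : AF z Q H p φ β ν J)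
include F

theorem Jphi (v : V) : φ (J v) = φ v := let ⟨_, a, b⟩ := F.exc; b v ▸ F.nu_phi (F.Hz a) v
theorem Jbeta (u v : V) : β (J u) (J v) = β u v := let ⟨_, a, b⟩ := F.exc; b u ▸ b v ▸ F.nu_beta (F.Hz a) u v
theorem J0 (h : J v = 0) : v = 0 := by rw [← F.J3 v, h, map_zero, map_zero]
/-- squares and commutators are linear. -/
theorem sqH (h : Commute a z) : a * a ∈ H := by
  by_cases k : a ∈ H
  exacts [mul_mem k k, F.two h h k k]
theorem halfH {T : Subgroup G} (h : T ≤ C1[z]) : #T ≤ 2 * #(T ⊓ H : Subgroup G) :=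
  half fun _ ha _ hb => F.two (mem_cent1.1 (h ha)) (mem_cent1.1 (h hb))

end AF

end Cfsg.Agent.A6N
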