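import Cfsg.Agent.A6N.T1
import Cfsg.Agent.Small.S6V
import Cfsg.Agent.Loc.WC

/-! Existence of the concrete frames `XF` and the dichotomy for the action of the normal subgroup of order three
(helper9). -/

set_option autoImplicit false
set_option linter.unusedSectionVars false

namespace Cfsg.Agent.A6N

open Cfsg.Agent.Fischer Cfsg.Agent.FI Subgroup Cfsg.Agent.BG Cfsg.Agent.LES Cfsg.Agent.PGrp Cfsg.Agent.U6R Equiv
open Cfsg.Agent.Small.S6V (cy pa pb g9 sub)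

local notation "S6" => Perm (Fin 6)

def L16 : List S6 := [1, cy [4, 5], cy [2, 3], cy [2, 3] * cy [4, 5], cy [0, 1], cy [0, 1] * cy [4, 5],
  cy [0, 1] * cy [2, 3], cy [0, 1] * cy [2, 3] * cy [4, 5], cy [0, 2] * cy [1, 3], cy [0, 2] * cy [1, 3] * cy [4, 5],
  cy [0, 2, 1, 3], cy [0, 2, 1, 3] * cy [4, 5], cy [0, 3, 1, 2], cy [0, 3, 1, 2] * cy [4, 5], cy [0, 3] * cy [1, 2],
  cy [0, 3] * cy [1, 2] * cy [4, 5]]

def P16 : Subgroup S6 := sub L16 (by decide +kernel)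

theorem card16 : #P16 = 16 := by
  rw [← show L16.toFinset.card = 16 by decide +kernel, ← Fintype.card_coe, ← Nat.card_eq_fintype_card]
  exact Nat.card_congr (Equiv.subtypeEquivRight fun x => List.mem_toFinset.symm)

theorem into16 {T : Subgroup S6} (h : IsPGroup 2 T) : ∃ g, cj g T ≤ P16 :=
  have := Fact.mk Nat.prime_two
  let ⟨g, _, e⟩ := (Loc.sylIn_of_not_dvd_relIndex (H := ⊤) le_top (.of_card (n := 4) card16) (by
    have := P16.card_mul_index
    rw [card16, Nat.card_perm, Nat.card_fin, show Nat.factorial 6 = 720 from rfl] at this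
    rw [relIndex_top_right]; omega)).exists_conj_le le_top h
  ⟨g, e⟩

theorem le16 {T : Subgroup S6} (h : IsPGroup 2 T) : #T ≤ 16 ∧ ((∀ a ∈ T, ∀ b ∈ T, a * b = b * a) → #T ≤ 8) := by
  have := Fact.mk Nat.prime_two
  obtain ⟨g, e⟩ := into16 h
  have h1 := card_le_of_le e
  rw [card_cj, card16] at h1
  refine ⟨h1, fun c => by_contra fun n => ?_⟩
  obtain ⟨k, hk⟩ := IsPGroup.iff_card.1 h
  have e' : cj g T = P16 := eq_of_le_of_card_ge e (by
    rw [card_cj, card16]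
    rw [hk] at n ⊢
    exact Nat.pow_le_pow_right two_pos (show 4 ≤ k from by_contra fun l => n (Nat.pow_le_pow_right two_pos (by omega : k ≤ 3))))
  have := congrArg (fun x => g * x * g⁻¹) (c _ (mem_cj.1 (e'.ge (show cy [0, 1] ∈ L16 by decide +kernel))) _
    (mem_cj.1 (e'.ge (show cy [0, 2, 1, 3] ∈ L16 by decide +kernel))))
  simp only [mul_assoc, mul_inv_cancel_left, mul_inv_cancel, mul_one] at this
  exact absurd this (by decide +kernel)

theorem noq8 {x y : S6} (h1 : x * x = y * y) (h2 : x * y * x⁻¹ * y⁻¹ = x * x) : x * x = 1 := by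
  have := Fact.mk Nat.prime_two
  have e1 : y * x * y⁻¹ = x⁻¹ := by
    rw [mul_assoc, mul_assoc, mul_right_inj, ← mul_assoc] at h2
    rw [← inv_inj, inv_inv]; nth_rw 2 [← h2]; group
  have e2 : x ^ 2 ^ 2 = 1 := by
    have : y * (x * x) * y⁻¹ = x * x := by rw [h1]; group
    rw [← conj_mul, e1] at this
    calc _ = x * x * (x * x) := by rw [show 2 ^ 2 = 2 + 2 from rfl, pow_add, pow_two]
      _ = _ := by nth_rw 1 [← this]; group
  have e3 : y ^ 2 ^ 2 = 1 := by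
    rw [show 2 ^ 2 = 2 + 2 from rfl, pow_add, pow_two] at e2 ⊢; rwa [← h1]
  obtain ⟨g, e⟩ := into16 (Loc.isPGroup_sup (Loc.isPGroup_zpowers_of_pow e3) (Loc.isPGroup_zpowers_of_pow e2)
    (zpowers_le.2 (Loc.mem_normalizer_iff_cj.2 (by rw [Loc.cj_zpowers, e1, zpowers_inv]))))
  have := (show ∀ a ∈ L16, ∀ b ∈ L16, a * a = b * b → a * b * a⁻¹ * b⁻¹ = a * a → a * a = 1 by decide +kernel) _
    (e (conj_mem_cj g (mem_sup_right (mem_zpowers x)))) _ (e (conj_mem_cj g (mem_sup_left (mem_zpowers y))))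
    (by rw [conj_mul, conj_mul, h1]) (by rw [show g * x * g⁻¹ * (g * x * g⁻¹) = g * (x * x) * g⁻¹ by group, ← h2]; group)
  rwa [conj_mul, conj_eq_one_iff] at this

universe u
variable {G : Type u} [Group G] [Finite G] {z : G} {Q H : Subgroup G}

theorem exists_XF (h : LES.LE Q z) (hQ : #Q = 2 ^ 9) (r : C1[z] →* Perm (Fin 3) × S6) (kr : ∀ a, r a = 1 ↔ a.1 ∈ Q)
    (sur : ∀ s t, Perm.sign s = 1 → Perm.sign t = 1 → ∃ a, r a = (s, t)) :
    ∃ (V : Type u) (_ : AddCommGroup V) (_ : Finite V) (H : Subgroup G) (p : G → V) (φ : V → ZMod 2)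
      (β : V →+ V →+ ZMod 2) (ν : G → V →+ V) (J : V →+ V) (ρ : G → Perm (Fin 3) × S6), XF z Q H p φ β ν J ρ := by
  classical
  obtain ⟨ρ, hρ⟩ : ∃ ρ : G → Perm (Fin 3) × S6, ∀ a : C1[z], ρ a = r a :=
    ⟨fun a => if h : a ∈ C1[z] then r ⟨a, h⟩ else 1, fun a => dif_pos a.2⟩
  have ml : ∀ {a b}, Commute a z → Commute b z → ρ (a * b) = ρ a * ρ b := fun {a b} ha hb =>
    (hρ (⟨a, mem_cent1.2 ha⟩ * ⟨b, mem_cent1.2 hb⟩)).trans (by rw [map_mul, ← hρ, ← hρ])
  have iv : ∀ {a}, Commute a z → ρ a⁻¹ = (ρ a)⁻¹ := fun {a} ha =>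
    (hρ (⟨a, mem_cent1.2 ha⟩⁻¹)).trans (by rw [map_inv, ← hρ])
  have kr' : ∀ {a}, Commute a z → (ρ a = 1 ↔ a ∈ Q) := fun {a} ha => by
    rw [hρ ⟨a, mem_cent1.2 ha⟩, kr]
  obtain ⟨H, hH⟩ : ∃ H : Subgroup G, ∀ a, a ∈ H ↔ Commute a z ∧ Perm.sign (ρ a).1 = 1 :=
    ⟨((Perm.sign.comp ((MonoidHom.fst _ _).comp r)).ker).map C1[z].subtype, fun a =>
      ⟨fun ⟨b, h1, h2⟩ => h2 ▸ ⟨mem_cent1.1 b.2, (hρ b).symm ▸ h1⟩, fun ⟨h1, h2⟩ =>
        ⟨⟨a, mem_cent1.2 h1⟩, (by rwa [hρ ⟨a, mem_cent1.2 h1⟩] at h2 : Perm.sign (r _).1 = 1), rfl⟩⟩⟩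
  obtain ⟨V, _, _, _, p, φ, β, ν, F⟩ := exists_Fm (H := H) h hQ
    (fun y hy => (hH y).2 ⟨h.zc y hy, by rw [(kr' (h.zc y hy)).2 hy]; simp⟩) (fun ha => ((hH _).1 ha).1)
    fun {a b} ha hb h1 h2 => (hH _).2 ⟨ha.mul_left hb, by
      rw [ml ha hb, Prod.fst_mul, map_mul, (Int.units_eq_one_or _).resolve_left fun e => h1 ((hH a).2 ⟨ha, e⟩),
        (Int.units_eq_one_or _).resolve_left fun e => h2 ((hH b).2 ⟨hb, e⟩)]; rfl⟩
  have cg : ∀ {a b}, Commute a z → Commute b z → ρ a = ρ b → ∀ v, ν a v = ν b v := fun {a b} ha hb e v => by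
    rw [← inv_mul_cancel_right a b, F.nu_mul (ha.mul_left hb.inv_left) hb,
      F.nu_Q ((kr' (ha.mul_left hb.inv_left)).1 (by rw [ml ha hb.inv_left, iv hb, e, mul_inv_cancel]))]
  obtain ⟨⟨c, hc⟩, ec⟩ := sur (finRotate 3) 1 (by decide) (map_one _)
  rw [← hρ] at ec
  have hc : Commute c z := mem_cent1.1 hc
  have crd : ∀ T ≤ H, (∀ x ∈ T, x * x * (x * x) = 1) → ∃ R : Subgroup S6, IsPGroup 2 R ∧ #T = #R * #(T ⊓ Q : Subgroup G) ∧
      ∀ s ∈ R, ∃ x ∈ T, (ρ x).2 = s := fun T hT h4 => by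
    have l : T ≤ C1[z] := fun x hx => mem_cent1.2 (F.Hz (hT hx))
    let f := (MonoidHom.snd _ _).comp (r.comp (inclusion l))
    have k : f.ker = Q.subgroupOf T := Subgroup.ext fun x => by
      rw [mem_subgroupOf, ← show r (inclusion l x) = 1 ↔ x.1 ∈ Q from kr _]
      refine ⟨fun e => Prod.ext ?_ e, fun e => congrArg Prod.snd e⟩
      have e1 := ((hH _).1 (hT x.2)).2
      have e2 := congrArg (fun y => (r y).1) (show inclusion l x * inclusion l x * (inclusion l x * inclusion l x) = 1 from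
        Subtype.ext (h4 _ x.2))
      rw [show ρ x = _ from hρ (inclusion l x)] at e1
      simp only [map_mul, map_one, Prod.fst_mul] at e2
      revert e1 e2; generalize (r (inclusion l x)).1 = s; revert s; decide
    refine ⟨f.range, IsPGroup.of_surjective (fun x => ⟨2, Subtype.ext (by
      rw [coe_pow, show 2 ^ 2 = 2 + 2 from rfl, pow_add, pow_two]; exact h4 _ x.2)⟩) _ f.rangeRestrict_surjective, ?_,
      by rintro _ ⟨x, rfl⟩; exact ⟨x, x.2, congrArg Prod.snd (hρ (inclusion l x))⟩⟩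
    rw [← index_ker, ← f.ker.index_mul_card, k, ← inf_subgroupOf_left, Nat.card_congr (subgroupOfEquivOfLe inf_le_left).toEquiv]
  refine ⟨V, _, ‹_›, H, p, φ, β, ν, ν c, ρ, ⟨F, ⟨c, (hH c).2 ⟨hc, by rw [ec]; decide⟩, fun _ => rfl⟩, fun v => ?_,
    fun {g} hg v => ?_, fun {g} hg n v => ?_, fun {x y} hx hy h1 h2 => ?_, fun T hT h4 => ?_, fun T hT h4 ab => ?_⟩, ml, kr',
    fun ha => by rw [hH, and_iff_right ha], fun s hs => ?_, c, hc, by rw [ec]; decide, by rw [ec], fun _ => rfl⟩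
  · rw [← F.nu_mul hc hc, ← F.nu_mul (hc.mul_left hc) hc, F.nu_Q ((kr' ((hc.mul_left hc).mul_left hc)).1 (by
      rw [ml (hc.mul_left hc) hc, ml hc hc, ec]; decide +kernel))]
  · obtain ⟨h1, h2⟩ := (hH g).1 hg
    rw [← F.nu_mul h1 hc, ← F.nu_mul hc h1]
    refine cg (h1.mul_left hc) (hc.mul_left h1) ?_ v
    rw [ml h1 hc, ml hc h1, ec]
    refine Prod.ext ?_ (by simp)
    revert h2; simp only [Prod.fst_mul]; generalize (ρ g).1 = s; revert s; decide
  · have h2 : Perm.sign (ρ g).1 ≠ 1 := fun e => n ((hH g).2 ⟨hg, e⟩)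
    rw [← F.nu_mul hg hc, ← F.nu_mul hc hg, ← F.nu_mul hc (hc.mul_left hg)]
    refine cg (hg.mul_left hc) (hc.mul_left (hc.mul_left hg)) ?_ v
    rw [ml hg hc, ml hc (hc.mul_left hg), ml hc hg, ec]
    refine Prod.ext ?_ (by simp)
    revert h2; simp only [Prod.fst_mul]; generalize (ρ g).1 = s; revert s; decide
  · have e1 := congrArg ρ h1
    have e2 := congrArg ρ h2
    rw [ml hx hx, ml hy hy] at e1
    rw [ml hx hx, ml ((hx.mul_left hy).mul_left hx.inv_left) hy.inv_left, ml (hx.mul_left hy) hx.inv_left, ml hx hy,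
      iv hx, iv hy] at e2
    refine (kr' (hx.mul_left hx)).1 ((ml hx hx).trans (Prod.ext ?_ (noq8 (congrArg Prod.snd e1) (congrArg Prod.snd e2))))
    exact (show ∀ a b : Perm (Fin 3), a * a = b * b → a * b * a⁻¹ * b⁻¹ = a * a → a * a = 1 by decide) _ _
      (congrArg Prod.fst e1) (congrArg Prod.fst e2)
  · obtain ⟨R, h1, h2, -⟩ := crd T hT h4
    exact h2 ▸ Nat.mul_le_mul_right _ (le16 h1).1
  · obtain ⟨R, h1, h2, h3⟩ := crd T hT h4
    refine h2 ▸ Nat.mul_le_mul_right _ ((le16 h1).2 fun s hs t ht => ?_)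
    obtain ⟨x, hx, rfl⟩ := h3 s hs
    obtain ⟨y, hy, rfl⟩ := h3 t ht
    have cx := F.Hz (hT hx)
    have cy := F.Hz (hT hy)
    have := (kr' (((cx.mul_left cy).mul_left cx.inv_left).mul_left cy.inv_left)).2 (ab x hx y hy)
    rw [ml ((cx.mul_left cy).mul_left cx.inv_left) cy.inv_left, ml (cx.mul_left cy) cx.inv_left, ml cx cy,
      iv cx, iv cy, mul_inv_eq_one, mul_inv_eq_iff_eq_mul] at this
    exact congrArg Prod.snd this
  · obtain ⟨a, e⟩ := sur 1 s (map_one _) hs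
    exact ⟨a, mem_cent1.1 a.2, (hρ a).trans e⟩

theorem cntS {X : Type*} [Finite X] (f : X → X) {q : ℕ} (hp : q.Prime) (h : ∀ x, f^[q] x = x) {S : Set X}
    (hS : ∀ x ∈ S, f x ∈ S) : Nat.card S % q = Nat.card {x | x ∈ S ∧ f x = x} % q := by
  classical
  haveI := Fact.mk hp
  haveI := Fintype.ofFinite S
  let g : Function.End S := fun x => ⟨f x, hS _ x.2⟩
  have h1 : ∀ n (x : S), ((g ^ n) x).1 = f^[n] x := fun n => by
    induction n with
    | zero => exact fun _ => rfl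
    | succ n ih => exact fun x => by rw [pow_succ, Function.iterate_succ]; exact ih _
  have := Equiv.Perm.card_fixedPoints_modEq (f := g) (p := q) (n := 1)
    (funext fun x => Subtype.ext (by rw [h1, pow_one, h]; rfl))
  rw [← Nat.card_eq_fintype_card, ← Nat.card_eq_fintype_card] at this
  exact this.trans (congrArg (· % q) (Nat.card_congr ⟨fun x => ⟨x.1, x.1.2, congrArg Subtype.val x.2⟩,
    fun x => ⟨⟨x, x.2.1⟩, Subtype.ext x.2.2⟩, fun _ => rfl, fun _ => rfl⟩))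

variable {V : Type*} [AddCommGroup V] [Finite V] {p : G → V} {φ : V → ZMod 2} {β : V →+ V →+ ZMod 2}
  {ν : G → V →+ V} {J : V →+ V} {ρ : G → Perm (Fin 3) × S6}

theorem fp1 (f : V →+ V) {q : ℕ} (hp : q.Prime) (h : ∀ x, f^[q] x = x) {S : Set V} (hS : ∀ x ∈ S, f x ∈ S) (h0 : 0 ∈ S)
    (h1 : ∀ x ∈ S, f x = x → x = 0) : Nat.card S % q = 1 := by
  rw [cntS f hp h hS, show {x | x ∈ S ∧ f x = x} = {0} from Set.ext fun x =>
    ⟨fun k => h1 x k.1 k.2, fun k => k ▸ ⟨h0, map_zero f⟩⟩, Nat.card_unique, Nat.mod_eq_of_lt hp.one_lt]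

theorem g9e : ∀ x : Multiplicative (ZMod 3 × ZMod 3), Perm.sign (g9 x) = 1 ∧ g9 x ^ 3 = 1 ∧ (x = 1 ∨ g9 x ≠ 1 ∧
    ∃ g ∈ [1, cy [0, 3] * cy [1, 5, 2, 4], cy [0, 3] * cy [1, 4, 2, 5], cy [1, 2] * cy [4, 5]], Perm.sign g = 1 ∧
    (g9 x * g = g * pa ∨ g9 x * g = g * (pa * pb))) := by
  decide +kernel

theorem XF.dich (F : XF z Q H p φ β ν J ρ) : (∀ v, J (J v) = J v + v) ∨ ∃ v, Pl J v := by
  classical
  have h2 := F.h2
  have ea : ∀ {u v : V}, u + v = 0 → u = v := eq_of_add h2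
  have cg : ∀ {a b}, Commute a z → Commute b z → ρ a = ρ b → ∀ v, ν a v = ν b v := fun {a b} ha hb e v => by
    rw [← inv_mul_cancel_right a b, F.nu_mul (ha.mul_left hb.inv_left) hb, F.nu_Q ((F.kr (ha.mul_left hb.inv_left)).1 (by
      rw [F.mul ha hb.inv_left, e, ← F.mul hb hb.inv_left, mul_inv_cancel, F.kr (Commute.one_left z)]; exact one_mem _))]
  choose! L L1 L2 using F.sur
  obtain ⟨A, hA⟩ : ∃ A : S6 → V →+ V, ∀ s, A s = ν (L s) := ⟨_, fun _ => rfl⟩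
  have Am : ∀ {s t}, Perm.sign s = 1 → Perm.sign t = 1 → ∀ v, A (s * t) v = A s (A t v) := fun {s t} hs ht v => by
    have hst : Perm.sign (s * t) = 1 := by rw [map_mul, hs, ht, one_mul]
    rw [hA, hA, hA, ← F.nu_mul (L1 s hs) (L1 t ht)]
    exact cg (L1 _ hst) ((L1 s hs).mul_left (L1 t ht)) (by
      rw [F.mul (L1 s hs) (L1 t ht), L2 s hs, L2 t ht, L2 _ hst, Prod.mk_mul_mk, one_mul]) v
  have A1 : ∀ v, A 1 v = v := fun v => by
    rw [hA, F.nu_Q ((F.kr (L1 1 (map_one _))).1 (L2 1 (map_one _)))]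
  have AJ : ∀ {s}, Perm.sign s = 1 → ∀ v, A s (J v) = J (A s v) := fun {s} hs v => by
    rw [hA, F.lin ((F.memH (L1 s hs)).2 (by rw [L2 s hs, map_one]))]
  have Af : ∀ {s}, Perm.sign s = 1 → (∀ v, A s v = v) → s = 1 := fun {s} hs h =>
    congrArg Prod.snd ((L2 s hs).symm.trans ((F.kr (L1 s hs)).2 (F.ker (L1 s hs) (hA s ▸ h))))
  have Ap : ∀ {s}, Perm.sign s = 1 → ∀ n, s ^ n = 1 → ∀ v, (A s)^[n] v = v := fun {s} hs n h v => by
    have : ∀ n v, (A s)^[n] v = A (s ^ n) v := fun n => by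
      induction n with
      | zero => exact fun v => (A1 v).symm
      | succ n ih => exact fun v => by rw [Function.iterate_succ_apply, ih, pow_succ, Am (by rw [map_pow, hs, one_pow]) hs]
    rw [this, h, A1]
  have pw : ∀ U : AddSubgroup V, Nat.card U ∈ [1, 2, 4, 8, 16, 32, 64, 128, 256] := fun U => by
    obtain ⟨k, h1, h3⟩ := (Nat.dvd_prime_pow Nat.prime_two (m := 8)).1 (F.card ▸ U.card_addSubgroup_dvd_card)
    rw [h3]; interval_cases k <;> decide
  simp only [List.mem_cons, List.not_mem_nil, or_false] at pw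
  have tp : ∀ U : AddSubgroup V, 256 ≤ Nat.card U → ∀ v, v ∈ U := fun U h v =>
    (U.eq_top_of_le_card (F.card ▸ h)).ge (AddSubgroup.mem_top v)
  obtain ⟨V2, m2⟩ : ∃ V2 : AddSubgroup V, ∀ v, v ∈ V2 ↔ J (J v) = J v + v :=
    ⟨(J.comp J).eqLocus (J + AddMonoidHom.id V), fun _ => Iff.rfl⟩
  obtain ⟨V6, m6⟩ : ∃ V6 : AddSubgroup V, ∀ v, v ∈ V6 ↔ J v = v := ⟨J.eqLocus (AddMonoidHom.id V), fun _ => Iff.rfl⟩
  have d6 : ∀ v, v + J v + J (J v) ∈ V6 := fun v => (m6 _).2 (by simp only [map_add, F.J3]; abel)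
  have d2 : ∀ v, J v + J (J v) ∈ V2 := fun v => (m2 _).2 (by
    simp only [map_add, F.J3]; linear_combination (norm := abel) -h2 (J (J v)))
  have i2 : ∀ v ∈ V2, J v ∈ V2 := fun v hv => (m2 _).2 (by rw [← map_add, ← (m2 v).1 hv])
  have dj : ∀ v ∈ V2, J v = v → v = 0 := fun v hv e => by
    have := (m2 v).1 hv; rwa [e, e, h2] at this
  have ot : ∀ u ∈ V2, ∀ w ∈ V6, β u w = 0 := fun u hu w hw => by
    have e1 := F.Jbeta u w
    have e2 := F.Jbeta (J u) w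
    rw [(m6 w).1 hw] at e1 e2
    rw [(m2 u).1 hu, map_add, AddMonoidHom.add_apply] at e2
    exact add_eq_left.1 e2
  have a2 : ∀ {s}, Perm.sign s = 1 → ∀ v ∈ V2, A s v ∈ V2 := fun hs v hv => (m2 _).2 (by
    rw [← AJ hs, ← AJ hs, (m2 v).1 hv, map_add])
  have a6 : ∀ {s}, Perm.sign s = 1 → ∀ v ∈ V6, A s v ∈ V6 := fun hs v hv => (m6 _).2 (by rw [← AJ hs, (m6 v).1 hv])
  have J3 : ∀ v, J^[3] v = v := F.J3
  refine or_iff_not_imp_left.2 fun n => ?_
  obtain ⟨w, hw, w0⟩ : ∃ w ∈ V6, w ≠ 0 := by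
    obtain ⟨v, hv⟩ := not_forall.1 n
    exact ⟨_, d6 v, fun e => hv (ea (by rw [← e]; abel))⟩
  obtain ⟨v0, hv0, n0⟩ : ∃ v ∈ V2, v ≠ 0 := by
    by_contra! k
    obtain ⟨c, c1, c2, -, c3⟩ := F.rc
    refine c2 (congrArg Prod.fst ((F.kr c1).2 (F.ker c1 fun v => ?_)))
    rw [c3, ← F.J3 (J v), ← ea (k _ (d2 (J (J v)))), F.J3]
  have c2 := fp1 J Nat.prime_three J3 i2 V2.zero_mem dj
  by_cases e4 : Nat.card V2 ≤ 4
  · refine ⟨v0, n0, (m2 _).1 hv0, fun x hx => by_contra fun k => ?_⟩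
    have := J4 (S := Ln h2 J v0) h2 hx F.J3 (by
      rintro _ (rfl | rfl | rfl | rfl)
      exacts [zero_mem _, hv0, i2 _ hv0, add_mem (i2 _ hv0) hv0]) (by
      rintro _ (rfl | rfl | rfl | rfl)
      exacts [.inl (map_zero _), .inr (.inr (.inl rfl)), .inr (.inr (.inr ((m2 _).1 hv0))),
        .inr (.inl (by rw [← (m2 _).1 hv0, F.J3]))]) i2 ((m2 _).2 hx) k
    exact n0 ((AddSubgroup.eq_bot_of_card_le (H := Ln h2 J v0) (by omega)).le (.inr (.inl rfl)))
  exfalso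
  have s1 : ∀ s, Perm.sign s = 1 → s ^ 5 = 1 → ∀ v ∈ V2, A s v = v := fun s hs s5 v hv => by
    have a5 : ∀ x, A s (A s (A s (A s (A s x)))) = x := Ap hs 5 s5
    have ab : ∀ x y, β (A s x) (A s y) = β x y := fun x y => by rw [hA, F.nu_beta (L1 s hs)]
    generalize ha : A s = a at a5 ab
    have aJ : ∀ x, a (J x) = J (a x) := ha ▸ AJ hs
    have a2 : ∀ v ∈ V2, a v ∈ V2 := ha ▸ a2 hs
    have iso : ∀ K : V →+ V, (∀ x, K (J x) = J (K x)) → (∀ x, K (a x) = a (K x)) → (∀ x ∈ V2, K (K x) = K x + x) →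
        (∀ x y, β (K x) y = β x (K (K y))) → ∀ u ∈ V2, a u + a (a (a (a u))) = K u → u = 0 := fun K k1 k2 k3 k4 u hu e => by
      obtain ⟨U, mU⟩ : ∃ U : AddSubgroup V, ∀ v, v ∈ U ↔ v ∈ V2 ∧ a v + a (a (a (a v))) = K v :=
        ⟨V2 ⊓ (a + a.comp (a.comp (a.comp a))).eqLocus K, fun _ => Iff.rfl⟩
      have u1 := fp1 J Nat.prime_three J3 (S := U) (fun x hx => (mU _).2 ⟨i2 _ ((mU x).1 hx).1, by
        rw [aJ, aJ, aJ, aJ, ← map_add, ((mU x).1 hx).2, k1]⟩) U.zero_mem fun x hx => dj x ((mU x).1 hx).1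
      have u2 := fp1 a Nat.prime_five a5 (S := U) (fun x hx => (mU _).2 ⟨a2 _ ((mU x).1 hx).1, by
        rw [← map_add, ((mU x).1 hx).2, k2]⟩) U.zero_mem fun x hx e => by
          obtain ⟨x1, x2⟩ := (mU x).1 hx
          have := k3 x x1
          rw [e, e, e, e, h2] at x2
          rwa [← x2, map_zero, zero_add, eq_comm] at this
      have u3 : ∀ x ∈ U, ∀ y ∈ U, β x y = 0 := fun x hx y hy => by
        obtain ⟨x1, x2⟩ := (mU x).1 hx
        obtain ⟨y1, y2⟩ := (mU y).1 hy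
        have := k4 x y
        rw [k3 y y1, ← x2, ← y2, map_add, AddMonoidHom.add_apply, map_add, map_add, ← ab x (a y), ← ab (a x) (a (a y)),
          ← ab (a (a x)) (a (a (a y))), ← ab (a (a (a x))) (a (a (a (a y)))), a5, ← ab x (a (a (a (a y)))), a5,
          add_comm] at this
        exact left_eq_add.1 this
      have u4 := iso16 F.toFm (S := U ⊔ AddSubgroup.zmultiples w) fun x hx y hy => by
        obtain ⟨x, x1, _, ⟨i, rfl⟩, rfl⟩ := AddSubgroup.mem_sup.1 hx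
        obtain ⟨y, y1, _, ⟨j, rfl⟩, rfl⟩ := AddSubgroup.mem_sup.1 hy
        simp only [map_add, map_zsmul, AddMonoidHom.add_apply, AddMonoidHom.zsmul_apply, u3 x x1 y y1, F.alt w,
          ot x ((mU x).1 x1).1 w hw, F.symm w y, ot y ((mU y).1 y1).1 w hw, smul_zero, add_zero]
      by_contra u0
      have u5 : Nat.card U ≠ 1 := fun k => u0 ((AddSubgroup.card_eq_one.1 k).le ((mU u).2 ⟨hu, e⟩))
      have := pw U
      exact w0 (dj w ((mU w).1 ((AddSubgroup.eq_of_le_of_card_ge le_sup_left (by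
        change Nat.card U % 3 = 1 at u1; change Nat.card U % 5 = 1 at u2; omega)).ge
        (AddSubgroup.mem_sup_right (AddSubgroup.mem_zmultiples w)))).1 ((m6 w).1 hw))
    have hu := add_mem (a2 v hv) hv
    have N : a (a (a v + v) + a (a (a (a (a v + v))))) + a (a (a (a (a (a v + v) + a (a (a (a (a v + v)))))))) +
        (a (a v + v) + a (a (a (a (a v + v))))) + (a v + v) = 0 := by
      simp only [map_add, a5]
      linear_combination (norm := abel) h2 (a (a (a v)) + a (a v) + a (a (a (a v))) + a v + a v + v + v)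
    generalize hu' : a v + v = u at hu N
    have ho := add_mem (a2 _ hu) (a2 _ (a2 _ (a2 _ (a2 _ hu))))
    have e1 := iso J (fun _ => rfl) (fun x => (aJ x).symm) (fun x => (m2 x).1) (fun x y => by
      rw [← F.Jbeta x, F.J3]) _ (add_mem ho (i2 _ (i2 _ hu))) (by
        have := (m2 _).1 ho
        simp only [map_add, aJ, F.J3] at this N ⊢
        linear_combination (norm := abel) N + this - h2 u)
    exact ea (hu'.trans (iso (J.comp J) (fun _ => rfl) (fun x => by simp [aJ]) (fun x hx => by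
      have := (m2 x).1 hx
      simp only [AddMonoidHom.comp_apply, F.J3]
      linear_combination (norm := abel) -this - h2 x) (fun x y => by
        simp only [AddMonoidHom.comp_apply, F.J3]; rw [← F.Jbeta x, ← F.Jbeta (J x), F.J3]) u hu (ea e1)))
  have s2 : ∀ s t : S6, (Perm.sign s = 1 ∧ ∀ v ∈ V2, A s v = v) → (Perm.sign t = 1 ∧ ∀ v ∈ V2, A t v = v) →
      Perm.sign (s * t) = 1 ∧ ∀ v ∈ V2, A (s * t) v = v := fun s t h k =>
    ⟨by rw [map_mul, h.1, k.1, one_mul], fun v hv => by rw [Am h.1 k.1, k.2 v hv, h.2 v hv]⟩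
  have s3 : ∀ s t : S6, Perm.sign s = 1 ∧ Perm.sign t = 1 ∧ s ^ 5 = 1 ∧ t ^ 5 = 1 → ∀ n : ℕ,
      Perm.sign ((s * t) ^ n) = 1 ∧ ∀ v ∈ V2, A ((s * t) ^ n) v = v := fun s t h n => by
    induction n with
    | zero => exact ⟨map_one _, fun v _ => A1 v⟩
    | succ n ih => exact pow_succ (s * t) n ▸ s2 _ _ ih (s2 _ _ ⟨h.1, s1 s h.1 h.2.2.1⟩ ⟨h.2.1, s1 t h.2.1 h.2.2.2⟩)
  have s4 : ∀ x, ∀ v ∈ V2, A (g9 x) v = v := fun x => (s2 _ _
    ((show cy [1, 2, 3, 4, 5] * cy [0, 5, 4, 3, 2] = pa by decide +kernel) ▸ s3 _ _ (by decide +kernel) x.toAdd.1.val)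
    ((show cy [1, 2, 3, 5, 4] * cy [1, 4, 3, 5, 2] = pb by decide +kernel) ▸ s3 _ _ (by decide +kernel) x.toAdd.2.val)).2
  have fx : ∀ s, Perm.sign s = 1 → s ≠ 1 → ∀ q, q.Prime → s ^ q = 1 → (∀ v ∈ V2, A s v = v) →
      ∃ U : AddSubgroup V, V2 ≤ U ∧ (∀ v, v ∈ U ↔ A s v = v) ∧ Nat.card U < 256 ∧ 256 % q = Nat.card U % q :=
    fun s hs s1 q hq sq h => ⟨(A s).eqLocus (AddMonoidHom.id V), h, fun _ => Iff.rfl,
      not_le.1 fun k => s1 (Af hs (tp _ k)), by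
        have := cntS (A s) hq (Ap hs q sq) (S := Set.univ) fun _ _ => trivial
        rwa [Nat.card_univ, F.card, show {x | x ∈ Set.univ ∧ A s x = x} = ((A s).eqLocus (AddMonoidHom.id V) : Set V) from
          Set.ext fun _ => and_iff_right trivial] at this⟩
  have f5 : Perm.sign (cy [0, 1, 2, 3, 4]) = 1 ∧ cy [0, 1, 2, 3, 4] ≠ 1 ∧ cy [0, 1, 2, 3, 4] ^ 5 = 1 := by decide +kernel
  obtain ⟨U, U1, U2, U3, U4⟩ := fx _ f5.1 f5.2.1 5 Nat.prime_five f5.2.2 (s1 _ f5.1 f5.2.2)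
  have c16 : Nat.card V2 = 16 ∧ V2 = U := by
    have := pw U; have := pw V2; have := AddSubgroup.card_le_of_le U1
    change Nat.card V2 % 3 = 1 at c2
    exact ⟨by omega, AddSubgroup.eq_of_le_of_card_ge U1 (by omega)⟩
  have fa : ∀ x ∈ V6, A (cy [0, 1, 2, 3, 4]) x = x → x = 0 := fun x hx e =>
    dj x (c16.2.ge ((U2 x).2 e)) ((m6 x).1 hx)
  have c6 : Nat.card V6 = 16 := by
    have h1 := Nat.card_le_card_of_injective _ (AddSubgroup.add_injective_of_disjoint (H₁ := V2) (H₂ := V6)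
      (AddSubgroup.disjoint_def.2 fun h k => dj _ h ((m6 _).1 k)))
    have h3 : Nat.card V6 % 5 = 1 := fp1 _ Nat.prime_five (Ap f5.1 5 f5.2.2) (a6 f5.1) V6.zero_mem fa
    have h4 : Nat.card V6 ≠ 1 := fun k => w0 ((AddSubgroup.card_eq_one.1 k).le hw)
    rw [Nat.card_prod, c16.1, F.card] at h1
    have := pw V6
    omega
  obtain ⟨e, e1, e3, fe⟩ : ∃ e, Perm.sign e = 1 ∧ e ^ 3 = 1 ∧ ∀ x ∈ V6, A e x = x → x = 0 := by
    by_contra! k
    obtain ⟨x1, x2, x3, x4⟩ := k pa (by decide +kernel) (by decide +kernel)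
    obtain ⟨y1, y2, y3, y4⟩ := k (pa * pb) (by decide +kernel) (by decide +kernel)
    letI : MulAction (Multiplicative (ZMod 3 × ZMod 3)) V :=
      { smul := fun x v => A (g9 x) v
        one_smul := fun v => (congrArg (A · v) (map_one g9)).trans (A1 v)
        mul_smul := fun x y v => (congrArg (A · v) (map_mul g9 x y)).trans (Am (g9e x).1 (g9e y).1 v) }
    haveI := Fintype.ofFinite V
    have := MulAction.sum_card_fixedBy_eq_card_orbits_mul_card_group (Multiplicative (ZMod 3 × ZMod 3)) V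
    rw [Finset.sum_congr rfl (g := fun x => if x = 1 then 256 else 64) fun x _ => by
      rw [← Nat.card_eq_fintype_card]
      split_ifs with h
      · rw [h, MulAction.fixedBy_one_eq_univ, Nat.card_univ, F.card]
      obtain ⟨g1, g3, g4⟩ := g9e x
      obtain ⟨g4, g, -, g5, g6⟩ := g4.resolve_left h
      obtain ⟨W, W1, W2, W3, W4⟩ := fx _ g1 g4 3 Nat.prime_three g3 (s4 x)
      obtain ⟨y, y5, y6, y7⟩ : ∃ y ∈ V6, A (g9 x) (A g y) = A g y ∧ y ≠ 0 := by
        rcases g6 with g6 | g6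
        exacts [⟨x1, x2, by rw [← Am g1 g5, g6, Am g5 (by decide +kernel), x3], x4⟩,
          ⟨y1, y2, by rw [← Am g1 g5, g6, Am g5 (by decide +kernel), y3], y4⟩]
      have : Nat.card W ≠ 16 := fun k => y7 (by
        have := dj _ ((AddSubgroup.eq_of_le_of_card_ge W1 (by omega)).ge ((W2 _).2 y6)) ((m6 _).1 (a6 g5 y y5))
        rw [← A1 y, ← inv_mul_cancel g, Am (by rw [map_inv, g5, inv_one]) g5, this, map_zero])
      have := pw W; have := AddSubgroup.card_le_of_le W1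
      refine (Nat.card_congr (Equiv.subtypeEquivRight (q := (· ∈ W)) fun v => (W2 v).symm)).trans ?_
      change Nat.card W = 64
      omega,
      show ∑ x : Multiplicative (ZMod 3 × ZMod 3), (if x = 1 then 256 else 64) = 768 by decide +kernel,
      show Fintype.card (Multiplicative (ZMod 3 × ZMod 3)) = 9 by decide +kernel] at this
    omega
  have t1 : ∀ {s}, Perm.sign s = 1 → ∀ x ∈ {v | v ∈ V6 ∧ φ v = 0}, A s x ∈ {v | v ∈ V6 ∧ φ v = 0} := fun hs x hx =>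
    ⟨a6 hs x hx.1, by rw [hA, F.nu_phi (L1 _ hs), hx.2]⟩
  have t2 := fp1 _ Nat.prime_five (Ap f5.1 5 f5.2.2) (t1 f5.1) ⟨V6.zero_mem, F.phi0⟩ fun x hx => fa x hx.1
  have t3 := fp1 _ Nat.prime_three (Ap e1 3 e3) (t1 e1) ⟨V6.zero_mem, F.phi0⟩ fun x hx => fe x hx.1
  have t4 : {v | v ∈ V6 ∧ φ v = 0} ⊆ V6 := fun _ h => h.1
  have t5 := Set.ncard_le_ncard t4
  rw [Nat.card_coe_set_eq] at t2 t3
  have t6 : (V6 : Set V).ncard = 16 := c6
  by_cases t7 : {v | v ∈ V6 ∧ φ v = 0}.ncard ≤ 1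
  · have t8 : ∀ x ∈ V6, x ≠ 0 → φ x = 1 := fun x hx k => z2_ne fun l =>
      k (Set.ncard_le_one_iff_subsingleton.1 t7 ⟨hx, l⟩ ⟨V6.zero_mem, F.phi0⟩)
    let g := (β w).comp V6.subtype
    have h1 := g.ker.card_mul_index
    have h3 : Nat.card g.range ≤ 2 := (AddSubgroup.card_le_card_addGroup _).trans (Nat.card_zmod 2).le
    have h4 := Nat.card_le_card_of_injective (fun x : g.ker => decide (x.1.1 = 0)) fun x y k => by
      have : ∀ x : g.ker, x.1.1 ≠ 0 → x.1.1 = w := fun x l => (ea (by_contra fun m => by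
        have := F.pol w x
        rw [t8 _ (add_mem hw x.1.2) m, t8 w hw w0, t8 _ x.1.2 l, show β w x = 0 from x.2] at this
        exact absurd this (by decide))).symm
      refine Subtype.ext (Subtype.ext ?_)
      by_cases l : x.1.1 = 0
      · simpa [l, eq_comm] using k
      · rw [this x l, this y (by simpa [l] using k)]
    rw [AddSubgroup.index_ker, c6] at h1
    simp only [Nat.card_eq_fintype_card, Fintype.card_bool] at h4
    nlinarith
  have t8 := (Set.eq_of_subset_of_ncard_le t4 (by omega)).ge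
  refine w0 (F.nd w fun v => ?_)
  have := F.pol w (v + J v + J (J v))
  rw [(t8 (add_mem hw (d6 v))).2, (t8 hw).2, (t8 (d6 v)).2, add_assoc v, map_add, F.symm w (_ + _), ot _ (d2 v) w hw] at this
  simpa using this.symm

end Cfsg.Agent.A6N
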